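import Cfsg.Agent.Lib.Recog.ONanLines.Design
import Cfsg.Agent.Lib.Recog.SymmDesign.Main
import Cfsg.Agent.Lib.Comp.FStar

/-!
# An abelian normal subgroup of a point stabiliser that is not semiregular
-/

set_option autoImplicit false

namespace CfsgLib.ONanLines

/-- The generalised Fitting subgroup of a group with a simple normal subgroup of trivial
centraliser. -/
theorem fstar_of_simple {G : Type*} [Group G] [Finite G] (N : Subgroup G) [hN : N.Normal]
    [IsSimpleGroup ↥N] (hC : Subgroup.centralizer (N : Set G) = ⊥) :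
    Cfsg.generalizedFittingSubgroup G = N := by
  have hz : Subgroup.center ↥N = ⊥ := by
    rw [Subgroup.eq_bot_iff_forall]
    intro z hz
    have : (z : G) ∈ Subgroup.centralizer (N : Set G) := Subgroup.mem_centralizer_iff.2
      fun y hy => congrArg Subtype.val (Subgroup.mem_center_iff.1 hz ⟨y, hy⟩)
    rw [hC, Subgroup.mem_bot] at this
    exact Subtype.ext this
  have hperf : Group.IsPerfect ↥N := ⟨by
    refine (inferInstance : (commutator ↥N).Normal).eq_bot_or_eq_top.resolve_left fun e => ?_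
    rw [commutator_eq_bot_iff_center_eq_top, hz] at e
    exact bot_ne_top e⟩
  have hcomp : Cfsg.IsComponent N := ⟨hN.isSubnormal, hperf,
    ((QuotientGroup.quotientMulEquivOfEq hz).trans QuotientGroup.quotientBot).isSimpleGroup⟩
  have hlayer : Cfsg.layer G = N := by
    refine le_antisymm (sSup_le fun K hK => ?_) (CfsgLib.Comp.le_layer hcomp)
    rcases CfsgLib.Comp.component_eq_or_le_centralizer hK hcomp with e | e
    · exact e.le
    · exact absurd (le_bot_iff.1 (hC ▸ e)) (CfsgLib.Comp.ne_bot_of_isComponent hK)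
  have hF : Cfsg.fittingSubgroup G = ⊥ :=
    le_bot_iff.1 (hC ▸ hlayer ▸ CfsgLib.Comp.fittingSubgroup_le_centralizer_layer G)
  rw [Cfsg.generalizedFittingSubgroup, hlayer, hF, sup_bot_eq]

/-- The data from an abelian normal subgroup of a point stabiliser that is not semiregular. -/
theorem exists_sys {G X : Type*} [Group G] [Finite G] [MulAction G X] [FaithfulSMul G X]
    (h2 : MulAction.IsMultiplyPretransitive G X 2) (x : X) (N : Subgroup G)
    (hNle : N ≤ MulAction.stabilizer G x)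
    (hNnormal : ∀ g ∈ MulAction.stabilizer G x, ∀ n ∈ N, g * n * g⁻¹ ∈ N)
    (hNab : ∀ a ∈ N, ∀ b ∈ N, a * b = b * a)
    {a : G} (ha : a ∈ N) (ha1 : a ≠ 1) {y : X} (hyx : y ≠ x) (hay : a • y = y) :
    Nonempty (Sys G X) := by
  classical
  have h2' : ∀ {u v u' v' : X}, u ≠ v → u' ≠ v' → ∃ g : G, g • u = u' ∧ g • v = v' :=
    MulAction.is_two_pretransitive_iff.1 h2
  have htrans : ∀ w : X, ∃ g : G, g • x = w := fun w => by
    by_cases hw : w = x
    · exact ⟨1, by rw [one_smul, hw]⟩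
    · obtain ⟨g, hg, -⟩ := h2' hyx.symm (v' := x) (u' := w) hw
      exact ⟨g, hg⟩
  choose g₀ hg₀ using htrans
  obtain ⟨p, hp, hdvd⟩ := Nat.exists_prime_and_dvd (fun h => ha1 (orderOf_eq_one_iff.1 h))
  let M₀ : Subgroup G :=
    { carrier := {n | n ∈ N ∧ n ^ p = 1}
      one_mem' := ⟨one_mem _, one_pow _⟩
      mul_mem' := fun hu hv => ⟨mul_mem hu.1 hv.1, by
        rw [Commute.mul_pow (hNab _ hu.1 _ hv.1), hu.2, hv.2, one_mul]⟩
      inv_mem' := fun hu => ⟨inv_mem hu.1, by rw [inv_pow, hu.2, inv_one]⟩ }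
  have hM₀ : ∀ g : G, g • x = x → ∀ n ∈ M₀, g * n * g⁻¹ ∈ M₀ := fun g hg n hn =>
    ⟨hNnormal g hg n hn.1, by rw [conj_pow, hn.2, mul_one, mul_inv_cancel]⟩
  let M : X → Subgroup G := fun w => M₀.map (MulAut.conj (g₀ w)).toMonoidHom
  have hmem : ∀ w n, n ∈ M w ↔ (g₀ w)⁻¹ * n * g₀ w ∈ M₀ := fun w n => by
    simp only [M, Subgroup.mem_map, MulEquiv.coe_toMonoidHom, MulAut.conj_apply]
    exact ⟨fun ⟨m, hm, e⟩ => by rw [← e]; simpa [mul_assoc] using hm,
      fun h => ⟨_, h, by group⟩⟩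
  have hconj : ∀ (g : G) (w : X) (n : G), n ∈ M w → g * n * g⁻¹ ∈ M (g • w) := by
    intro g w n hn
    rw [hmem] at hn ⊢
    have hs : ((g₀ (g • w))⁻¹ * g * g₀ w) • x = x := by
      rw [mul_smul, mul_smul, hg₀, inv_smul_eq_iff, hg₀]
    have := hM₀ _ hs _ hn
    convert this using 1
    group
  refine ⟨
    { M := M
      p := p
      prime := hp
      conj := hconj
      fixes := fun w n hn => ?_
      comm := fun w u v hu hv => ?_
      pow_p := fun w n hn => ?_
      nontrivial := fun u v huv => ?_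
      two := fun u v u' v' h h' => h2' h h'
      faithful := fun g hg => FaithfulSMul.eq_of_smul_eq_smul fun z : X => by rw [hg, one_smul] }⟩
  · rw [hmem] at hn
    have h : ((g₀ w)⁻¹ * n * g₀ w) • x = x := hNle hn.1
    rwa [mul_smul, mul_smul, hg₀, inv_smul_eq_iff, hg₀] at h
  · rw [hmem] at hu hv
    have h := hNab _ hu.1 _ hv.1
    have := congrArg (fun t => g₀ w * t * (g₀ w)⁻¹) h
    simpa [mul_assoc] using this
  · rw [hmem] at hn
    have h := hn.2
    rw [show (g₀ w)⁻¹ * n * g₀ w = (g₀ w)⁻¹ * n * ((g₀ w)⁻¹)⁻¹ by rw [inv_inv], conj_pow,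
      mul_inv_eq_one, mul_eq_left] at h
    exact h
  · have ha2 : orderOf (a ^ (orderOf a / p)) = p :=
      orderOf_pow_orderOf_div (orderOf_pos a).ne' hdvd
    have hfix : (a ^ (orderOf a / p)) • y = y := by
      have : a ^ (orderOf a / p) ∈ MulAction.stabilizer G y := pow_mem hay _
      exact this
    have hmx : a ^ (orderOf a / p) ∈ M x := by
      rw [hmem]
      have h := hM₀ (g₀ x)⁻¹ (by rw [inv_smul_eq_iff, hg₀]) (a ^ (orderOf a / p))
        ⟨pow_mem ha _, by conv_lhs => arg 2; rw [← ha2]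
                          exact pow_orderOf_eq_one _⟩
      rwa [inv_inv] at h
    obtain ⟨g, hgx, hgy⟩ := h2' hyx.symm huv
    refine ⟨g * a ^ (orderOf a / p) * g⁻¹, hgx ▸ hconj g x _ hmx, fun e => ?_, ?_⟩
    · rw [mul_inv_eq_one, mul_eq_left] at e
      rw [e, orderOf_one] at ha2
      exact hp.one_lt.ne ha2
    · rw [← hgy, mul_smul, inv_smul_smul, mul_smul, hfix]

end CfsgLib.ONanLines
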