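import Mathlib.LinearAlgebra.Dual.Lemmas
import Mathlib.FieldTheory.Finiteness
import Mathlib.Data.Fintype.BigOperators
import Mathlib.Tactic.Linarith
import Mathlib.Tactic.Ring
import Mathlib.Tactic.LinearCombination
import Mathlib.Algebra.Module.ZMod
import Mathlib.Algebra.Field.ZMod

/-!
# Counting in a family of subspaces of codimension `log d` with full pencils

If any two members `A i`, `A j` meet in index `d²` and the members above their intersection cover the
space, the annihilators of the members are the points of a projective space: the number of members,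
the number of members through a vector and the size of their common part are determined.
-/

set_option autoImplicit false

open Finset

namespace CfsgLib.ONanLines

variable {F V ι : Type*} [Field F] [Finite F] [AddCommGroup V] [Module F V] [Finite V]
  [Fintype ι] {d : ℕ} {A : ι → Submodule F V}

theorem card_annihilator (W : Submodule F V) :
    Nat.card W * Nat.card W.dualAnnihilator = Nat.card V := by
  rw [Module.natCard_eq_pow_finrank (K := F) (V := W),
    Module.natCard_eq_pow_finrank (K := F) (V := W.dualAnnihilator), ← pow_add,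
    Subspace.finrank_add_finrank_dualAnnihilator_eq, ← Module.natCard_eq_pow_finrank]

theorem card_coannihilator (Φ : Submodule F (Module.Dual F V)) :
    Nat.card Φ * Nat.card Φ.dualCoannihilator = Nat.card V := by
  rw [Module.natCard_eq_pow_finrank (K := F) (V := Φ),
    Module.natCard_eq_pow_finrank (K := F) (V := Φ.dualCoannihilator), ← pow_add,
    Subspace.finrank_add_finrank_dualCoannihilator_eq, ← Module.natCard_eq_pow_finrank]

theorem card_dual : Nat.card (Module.Dual F V) = Nat.card V := by
  rw [Module.natCard_eq_pow_finrank (K := F), Module.natCard_eq_pow_finrank (K := F) (V := V),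
    Subspace.dual_finrank_eq]

/-- The hypotheses on the family. -/
structure Pencils (A : ι → Submodule F V) (d : ℕ) : Prop where
  two_le : 2 ≤ d
  card_A : ∀ i, Nat.card (A i) * d = Nat.card V
  card_pair : ∀ i j, i ≠ j → Nat.card ↥(A i ⊓ A j) * (d * d) = Nat.card V
  cover : ∀ i j, i ≠ j → ∀ v : V, ∃ l, v ∈ A l ∧ A i ⊓ A j ≤ A l
  bot : ∀ v : V, (∀ i, v ∈ A i) → v = 0
  two_members : ∃ i j : ι, i ≠ j

namespace Pencils

variable (hP : Pencils A d)
include hP

theorem card_U (i : ι) : Nat.card (A i).dualAnnihilator = d := by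
  have h := card_annihilator (A i)
  rw [← hP.card_A i] at h
  exact Nat.eq_of_mul_eq_mul_left Nat.card_pos h

theorem U_disjoint {i j : ι} (hij : i ≠ j) {f : Module.Dual F V} (hi : f ∈ (A i).dualAnnihilator)
    (hj : f ∈ (A j).dualAnnihilator) : f = 0 := by
  have hsup : Nat.card ↥(A i ⊔ A j) = Nat.card V := by
    have h1 := Submodule.finrank_sup_add_finrank_inf_eq (A i) (A j)
    have e : Nat.card ↥(A i ⊔ A j) * Nat.card ↥(A i ⊓ A j) = Nat.card (A i) * Nat.card (A j) := by
      rw [Module.natCard_eq_pow_finrank (K := F) (V := ↥(A i ⊔ A j)),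
        Module.natCard_eq_pow_finrank (K := F) (V := ↥(A i ⊓ A j)),
        Module.natCard_eq_pow_finrank (K := F) (V := ↥(A i)),
        Module.natCard_eq_pow_finrank (K := F) (V := ↥(A j)), ← pow_add, ← pow_add, h1]
    refine Nat.eq_of_mul_eq_mul_right (m := Nat.card ↥(A i ⊓ A j) * (d * d))
      (Nat.mul_pos Nat.card_pos (Nat.mul_pos (by have := hP.two_le; omega)
        (by have := hP.two_le; omega))) ?_
    rw [← mul_assoc, e]
    conv_rhs => rw [hP.card_pair i j hij]
    calc Nat.card (A i) * Nat.card (A j) * (d * d)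
        = (Nat.card (A i) * d) * (Nat.card (A j) * d) := by ring
      _ = _ := by rw [hP.card_A, hP.card_A]
  have hall : ∀ v : V, f v = 0 := fun v => by
    have htop : A i ⊔ A j = ⊤ :=
      Submodule.eq_top_of_finrank_eq (Nat.pow_right_injective (a := Nat.card F)
        Finite.one_lt_card (by
          show Nat.card F ^ _ = Nat.card F ^ _
          rw [← Module.natCard_eq_pow_finrank, ← Module.natCard_eq_pow_finrank]; exact hsup))
    have hv : v ∈ A i ⊔ A j := htop ▸ Submodule.mem_top
    obtain ⟨a, ha, b, hb, rfl⟩ := Submodule.mem_sup.1 hv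
    rw [map_add, (Submodule.mem_dualAnnihilator f).1 hi a ha,
      (Submodule.mem_dualAnnihilator f).1 hj b hb, add_zero]
  exact LinearMap.ext hall

/-- A functional killing the intersection of two members lies in one annihilator of the pencil. -/
theorem mem_pencil {i j : ι} (hij : i ≠ j) {f : Module.Dual F V}
    (hf : f ∈ (A i ⊓ A j).dualAnnihilator) :
    ∃ l, A i ⊓ A j ≤ A l ∧ f ∈ (A l).dualAnnihilator := by
  classical
  haveI := Fintype.ofFinite V
  haveI : Finite (Module.Dual F V) :=
    Nat.finite_of_card_ne_zero (by rw [card_dual]; exact Nat.card_pos.ne')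
  haveI := Fintype.ofFinite (Module.Dual F V)
  set K := A i ⊓ A j with hK
  set T : Finset ι := univ.filter fun l => K ≤ A l with hT
  have hc : ∀ W : Submodule F V, Nat.card W = #(univ.filter fun v => v ∈ W) := fun W =>
    Nat.subtype_card _ (by simp)
  have hc' : ∀ W : Submodule F (Module.Dual F V), Nat.card W = #(univ.filter fun v => v ∈ W) :=
    fun W => Nat.subtype_card _ (by simp)
  have hd := hP.two_le
  set k := Nat.card K with hk
  have hkd : k * (d * d) = Nat.card V := hP.card_pair i j hij
  have hcV : Nat.card V = #(univ : Finset V) := Nat.card_eq_fintype_card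
  have hcover : univ.filter (fun v : V => v ∉ K) ⊆
      T.biUnion fun l => univ.filter fun v => v ∈ A l ∧ v ∉ K := fun v hv => by
    obtain ⟨l, hl, hKl⟩ := hP.cover i j hij v
    simp only [mem_filter, mem_univ, true_and] at hv
    exact mem_biUnion.2 ⟨l, by simp [hT, hK] at hKl ⊢; exact hKl, by simp [hl, hv]⟩
  have h1 := (card_le_card hcover).trans card_biUnion_le
  have hl : ∀ l ∈ T, #(univ.filter fun v => v ∈ A l ∧ v ∉ K) = (d - 1) * k := fun l hl => by
    have hKl : K ≤ A l := (mem_filter.1 hl).2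
    have e : #(univ.filter fun v => v ∈ A l ∧ v ∉ K) + k = Nat.card (A l) := by
      rw [hk, hc (A l), hc K, ← card_union_of_disjoint]
      · congr 1; ext v
        simp only [mem_union, mem_filter, mem_univ, true_and]
        exact ⟨fun h => h.elim (·.1) (@hKl v ·),
          fun h => (em (v ∈ K)).elim Or.inr fun h' => Or.inl ⟨h, h'⟩⟩
      · rw [disjoint_left]; intro v hv; simp only [mem_filter] at hv ⊢; tauto
    have e2 : Nat.card (A l) = d * k := Nat.eq_of_mul_eq_mul_right (m := d) (by omega) (by
      rw [hP.card_A, ← hkd]; ring)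
    rw [tsub_mul, one_mul]; omega
  rw [sum_congr rfl hl, sum_const, smul_eq_mul] at h1
  have hlhs : #(univ.filter fun v : V => v ∉ K) = (d + 1) * ((d - 1) * k) := by
    have e := card_filter_add_card_filter_not (s := (univ : Finset V)) (fun v => v ∈ K)
    rw [← hc K, ← hcV, ← hk, ← hkd] at e
    obtain ⟨c, rfl⟩ := Nat.exists_eq_add_of_le (show 1 ≤ d by omega)
    rw [Nat.add_sub_cancel_left]
    nlinarith
  rw [hlhs] at h1
  have hT1 : d + 1 ≤ #T := Nat.le_of_mul_le_mul_right h1 (Nat.mul_pos (by omega) Nat.card_pos)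
  let g : ι → Finset (Module.Dual F V) := fun l =>
    univ.filter fun f => f ∈ (A l).dualAnnihilator ∧ f ≠ 0
  have hdisj : (T : Set ι).PairwiseDisjoint g := fun a _ b _ hab => by
    simp only [Function.onFun, disjoint_left, g, mem_filter]
    exact fun x ⟨_, hx, hx0⟩ ⟨_, hx', _⟩ => hx0 (hP.U_disjoint hab hx hx')
  have hg : ∀ l ∈ T, #(g l) = d - 1 := fun l _ => by
    rw [← hP.card_U l, hc', ← card_erase_of_mem (a := (0 : Module.Dual F V)) (by simp)]
    congr 1; ext x; simp [g, and_comm]
  set Z : Finset (Module.Dual F V) := univ.filter fun f => f ∈ K.dualAnnihilator ∧ f ≠ 0 with hZ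
  have hsub : T.biUnion g ⊆ Z := fun x hx => by
    obtain ⟨l, hl, hx⟩ := mem_biUnion.1 hx
    simp only [g, hZ, mem_filter, mem_univ, true_and] at hx ⊢
    exact ⟨Submodule.dualAnnihilator_anti (mem_filter.1 hl).2 hx.1, hx.2⟩
  have hZc : #Z = d * d - 1 := by
    have hcK : Nat.card K.dualAnnihilator = d * d := Nat.eq_of_mul_eq_mul_left (n := k) Nat.card_pos
      ((card_annihilator K).trans hkd.symm)
    rw [← hcK, hc', ← card_erase_of_mem (a := (0 : Module.Dual F V)) (by simp)]
    congr 1; ext x; simp [hZ, and_comm]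
  have heq := eq_of_subset_of_card_le hsub (by
    rw [card_biUnion hdisj, sum_congr rfl hg, sum_const, smul_eq_mul, hZc]
    calc d * d - 1 = (d + 1) * (d - 1) := by
          obtain ⟨c, rfl⟩ := Nat.exists_eq_add_of_le (show 1 ≤ d by omega)
          rw [Nat.add_sub_cancel_left]
          have : (1 + c) * (1 + c) = (1 + c + 1) * c + 1 := by ring
          omega
      _ ≤ #T * (d - 1) := Nat.mul_le_mul_right _ hT1)
  by_cases hf0 : f = 0
  · exact ⟨i, inf_le_left, hf0 ▸ zero_mem _⟩
  have : f ∈ T.biUnion g := by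
    rw [heq, hZ]; exact mem_filter.2 ⟨mem_univ _, hf, hf0⟩
  obtain ⟨l, hl, hfl⟩ := mem_biUnion.1 this
  exact ⟨l, (mem_filter.1 hl).2, (mem_filter.1 hfl).2.1⟩

theorem exists_member {s : Finset ι} (hs : ∀ i ∈ s, ∀ j ∈ s, ∀ l, A i ⊓ A j ≤ A l → l ∈ s)
    (i₀ : ι) (hi₀ : i₀ ∈ s) :
    ∃ U : Submodule F (Module.Dual F V),
      (∀ f, f ∈ U ↔ ∃ i ∈ s, f ∈ (A i).dualAnnihilator) ∧
      Nat.card U = #s * (d - 1) + 1 := by
  classical
  haveI : Finite (Module.Dual F V) :=
    Nat.finite_of_card_ne_zero (by rw [card_dual]; exact Nat.card_pos.ne')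
  haveI := Fintype.ofFinite (Module.Dual F V)
  let U : Submodule F (Module.Dual F V) :=
    { carrier := {f | ∃ i ∈ s, f ∈ (A i).dualAnnihilator}
      add_mem' := by
        rintro f g ⟨i, hi, hf⟩ ⟨j, hj, hg⟩
        by_cases hij : i = j
        · subst hij; exact ⟨i, hi, add_mem hf hg⟩
        obtain ⟨l, hl, hfg⟩ := hP.mem_pencil hij (add_mem
          (Submodule.dualAnnihilator_anti (inf_le_left : A i ⊓ A j ≤ A i) hf)
          (Submodule.dualAnnihilator_anti (inf_le_right : A i ⊓ A j ≤ A j) hg))
        exact ⟨l, hs i hi j hj l hl, hfg⟩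
      zero_mem' := ⟨i₀, hi₀, zero_mem _⟩
      smul_mem' := by rintro c f ⟨i, hi, hf⟩; exact ⟨i, hi, Submodule.smul_mem _ c hf⟩ }
  refine ⟨U, fun f => Iff.rfl, ?_⟩
  let g : ι → Finset (Module.Dual F V) := fun l =>
    univ.filter fun f => f ∈ (A l).dualAnnihilator ∧ f ≠ 0
  have hdisj : (s : Set ι).PairwiseDisjoint g := fun a _ b _ hab => by
    simp only [Function.onFun, disjoint_left, g, mem_filter]
    exact fun x ⟨_, hx, hx0⟩ ⟨_, hx', _⟩ => hx0 (hP.U_disjoint hab hx hx')
  have hg : ∀ l ∈ s, #(g l) = d - 1 := fun l _ => by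
    rw [← hP.card_U l, Nat.subtype_card (univ.filter fun f => f ∈ (A l).dualAnnihilator) (by simp),
      ← card_erase_of_mem (a := (0 : Module.Dual F V)) (by simp)]
    congr 1; ext x; simp [g, and_comm]
  rw [Nat.subtype_card (univ.filter fun f => f ∈ U) (by simp),
    show univ.filter (fun f => f ∈ U) = insert 0 (s.biUnion g) from ?_,
    card_insert_of_notMem (by simp [g]), card_biUnion hdisj, sum_congr rfl hg, sum_const,
    smul_eq_mul]
  ext f
  simp only [mem_filter, mem_univ, true_and, mem_insert, mem_biUnion, g]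
  constructor
  · intro hf
    obtain ⟨i, hi, hf'⟩ : ∃ i ∈ s, f ∈ (A i).dualAnnihilator := hf
    by_cases h0 : f = 0
    · exact Or.inl h0
    · exact Or.inr ⟨i, hi, hf', h0⟩
  · rintro (rfl | ⟨i, hi, hf, -⟩)
    exacts [zero_mem _, ⟨i, hi, hf⟩]

theorem card_index : Fintype.card ι * (d - 1) + 1 = Nat.card V := by
  classical
  obtain ⟨i₀, j₀, -⟩ := hP.two_members
  obtain ⟨U, hU, hcU⟩ :=
    hP.exists_member (s := univ) (fun _ _ _ _ l _ => mem_univ l) i₀ (mem_univ _)
  have hbot : U.dualCoannihilator = ⊥ := by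
    refine (Submodule.eq_bot_iff _).2 fun v hv => hP.bot v fun i => ?_
    rw [← Subspace.dualAnnihilator_dualCoannihilator_eq (W := A i), Submodule.mem_dualCoannihilator]
    exact fun f hf => (Submodule.mem_dualCoannihilator v).1 hv f ((hU f).2 ⟨i, mem_univ _, hf⟩)
  have h := card_coannihilator U
  rw [hbot, show Nat.card (⊥ : Submodule F V) = 1 from Nat.card_unique, mul_one, hcU, card_univ] at h
  exact h

theorem card_through [DecidableEq ι] {a : V} (ha : a ≠ 0) [∀ i, Decidable (a ∈ A i)] :
    (#(univ.filter fun i => a ∈ A i) * (d - 1) + 1) * d = Nat.card V := by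
  classical
  haveI := Fintype.ofFinite V
  obtain ⟨i₀, j₀, hij₀⟩ := hP.two_members
  set N := Nat.card V with hN
  set h := Fintype.card ι with hh
  have hcard := hP.card_index
  rw [← hh, ← hN] at hcard
  let n : V → ℕ := fun v => #(univ.filter fun i => v ∈ A i)
  have hA0 : ∀ i, #((univ.erase (0 : V)).filter fun v => v ∈ A i) + 1 = Nat.card (A i) := fun i => by
    rw [filter_erase, card_erase_add_one (by simp),
      Nat.subtype_card (univ.filter fun v => v ∈ A i) (by simp)]
  have hK0 : ∀ i j, #((univ.erase (0 : V)).filter fun v => v ∈ A i ∧ v ∈ A j) + 1 =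
      Nat.card ↥(A i ⊓ A j) := fun i j => by
    rw [filter_erase, card_erase_add_one (by simp),
      Nat.subtype_card (univ.filter fun v => v ∈ A i ∧ v ∈ A j) (by simp)]
  have s1 : (∑ v ∈ univ.erase (0 : V), (n v : ℤ)) * d = h * ((N : ℤ) - d) := by
    have e : ∑ v ∈ univ.erase (0 : V), n v =
        ∑ i, #((univ.erase (0 : V)).filter fun v => v ∈ A i) := by
      simp only [n, Finset.card_filter]; exact Finset.sum_comm
    rw [← Nat.cast_sum, e, Nat.cast_sum, sum_mul, sum_congr rfl (g := fun _ => (N : ℤ) - d)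
      fun i _ => by
        have h1 := hA0 i
        have h2 := hP.card_A i
        rw [← h1, ← hN] at h2
        zify at h2
        linear_combination h2]
    simp [hh]
    ring
  have s2 : (∑ v ∈ univ.erase (0 : V), (n v : ℤ) * n v) * (d * d) =
      h * ((N : ℤ) - d) * d + h * ((h : ℤ) - 1) * ((N : ℤ) - d * d) := by
    have e : ∑ v ∈ univ.erase (0 : V), n v * n v =
        ∑ i, ∑ j, #((univ.erase (0 : V)).filter fun v => v ∈ A i ∧ v ∈ A j) := by
      simp only [n, Finset.card_filter, sum_mul_sum]
      rw [sum_comm]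
      refine sum_congr rfl fun i _ => ?_
      rw [sum_comm]
      refine sum_congr rfl fun j _ => sum_congr rfl fun v _ => ?_
      split_ifs <;> simp_all
    simp only [← Nat.cast_mul]
    rw [← Nat.cast_sum, e]
    push_cast
    rw [sum_mul, sum_congr rfl (g := fun _ => ((N : ℤ) - d) * d + ((h : ℤ) - 1) * ((N : ℤ) - d * d))
      fun i _ => by
        rw [sum_mul, ← add_sum_erase _ _ (mem_univ i),
          sum_congr rfl (g := fun _ => (N : ℤ) - d * d) fun j hj => by
            have h1 := hK0 i j
            have h2 := hP.card_pair i j (ne_of_mem_erase hj).symm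
            rw [← h1, ← hN] at h2
            zify at h2
            linear_combination h2,
          sum_const, card_erase_of_mem (mem_univ i), card_univ, nsmul_eq_mul]
        have h1 := hA0 i
        have h2 := hP.card_A i
        rw [← h1, ← hN] at h2
        simp only [and_self]
        have hpos : 1 ≤ h := hh ▸ Fintype.card_pos_iff.2 ⟨i⟩
        rw [← hh, Nat.cast_sub hpos]
        zify at h2
        push_cast
        linear_combination (d : ℤ) * h2]
    rw [sum_const, card_univ, nsmul_eq_mul, ← hh]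
    ring
  have hd := hP.two_le
  have hN1 : ((#(univ.erase (0 : V)) : ℕ) : ℤ) = (N : ℤ) - 1 := by
    rw [card_erase_of_mem (mem_univ _), card_univ, hN, Nat.card_eq_fintype_card,
      Nat.cast_sub (Fintype.card_pos)]
    simp
  have hvar : ∑ v ∈ univ.erase (0 : V), (((n v : ℤ) * (d - 1) + 1) * d - N) ^ 2 = 0 := by
    rw [sum_congr rfl (g := fun v => (n v : ℤ) * n v * (d * d) * ((d : ℤ) - 1) ^ 2 +
      (n v : ℤ) * d * (2 * ((d : ℤ) - 1) * ((d : ℤ) - N)) + ((d : ℤ) - N) ^ 2) fun v _ => by ring]
    rw [sum_add_distrib, sum_add_distrib, ← sum_mul, ← sum_mul, ← sum_mul, ← sum_mul, s1, s2,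
      sum_const, nsmul_eq_mul, hN1]
    have hc : (h : ℤ) * ((d : ℤ) - 1) + 1 = N := by
      have := hcard
      zify [show 1 ≤ d by omega] at this
      linear_combination this
    rw [← hc]
    ring
  have h3 := (sum_eq_zero_iff_of_nonneg fun v _ => sq_nonneg _).1 hvar a
    (mem_erase.2 ⟨ha, mem_univ a⟩)
  rw [sq_eq_zero_iff, sub_eq_zero] at h3
  have e : n a = #(univ.filter fun i => a ∈ A i) := by
    simp only [n]; congr 1; ext i; simp
  rw [← e]
  zify [show 1 ≤ d by omega]
  exact h3

theorem card_axis_group [DecidableEq ι] {a : V} (ha : a ≠ 0) [∀ i, Decidable (a ∈ A i)] :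
    (univ.filter fun i => a ∈ A i).Nonempty →
    Nat.card {v : V // ∀ i, a ∈ A i → v ∈ A i} = d := by
  classical
  rintro ⟨i₀, hi₀⟩
  set s := univ.filter fun i => a ∈ A i with hs
  obtain ⟨U, hU, hcU⟩ := hP.exists_member (s := s) (fun i hi j hj l hl => by
    rw [hs, mem_filter] at hi hj ⊢
    exact ⟨mem_univ _, hl ⟨hi.2, hj.2⟩⟩) i₀ hi₀
  have hmem : ∀ v : V, v ∈ U.dualCoannihilator ↔ ∀ i, a ∈ A i → v ∈ A i := by
    intro v
    rw [Submodule.mem_dualCoannihilator]
    refine ⟨fun h i hi => ?_, fun h f hf => ?_⟩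
    · rw [← Subspace.dualAnnihilator_dualCoannihilator_eq (W := A i),
        Submodule.mem_dualCoannihilator]
      exact fun f hf => h f ((hU f).2 ⟨i, by simp [hs, hi], hf⟩)
    · obtain ⟨i, hi, hfi⟩ := (hU f).1 hf
      exact (Submodule.mem_dualAnnihilator f).1 hfi v (h i (by simpa [hs] using hi))
  rw [Nat.card_congr (Equiv.subtypeEquivRight fun v => (hmem v).symm)]
  have h := card_coannihilator U
  rw [hcU, ← hP.card_through ha, ← hs] at h
  exact Nat.eq_of_mul_eq_mul_left (by omega) h

end Pencils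

/-- The count for subgroups of an elementary abelian group. -/
theorem subgroup_pencils {M : Type*} [CommGroup M] [Finite M] {p : ℕ} (hp : p.Prime)
    (hexp : ∀ m : M, m ^ p = 1) {ι : Type*} [Fintype ι] [DecidableEq ι] (B : ι → Subgroup M)
    {d : ℕ} (hd : 2 ≤ d) (hA : ∀ i, Nat.card (B i) * d = Nat.card M)
    (hK : ∀ i j, i ≠ j → Nat.card ↥(B i ⊓ B j) * (d * d) = Nat.card M)
    (hcov : ∀ i j, i ≠ j → ∀ m : M, ∃ l, m ∈ B l ∧ B i ⊓ B j ≤ B l)
    (hbot : ∀ m : M, (∀ i, m ∈ B i) → m = 1) (h2 : ∃ i j : ι, i ≠ j) :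
    Fintype.card ι * (d - 1) + 1 = Nat.card M ∧
      ∀ a : M, a ≠ 1 → ∀ [DecidablePred fun i => a ∈ B i],
        (#(univ.filter fun i => a ∈ B i) * (d - 1) + 1) * d = Nat.card M ∧
        ((univ.filter fun i => a ∈ B i).Nonempty →
          Nat.card {m : M // ∀ i, a ∈ B i → m ∈ B i} = d) := by
  classical
  haveI := Fact.mk hp
  have hexp' : ∀ v : Additive M, p • v = 0 := fun v =>
    Additive.toMul.injective (by rw [toMul_nsmul]; exact hexp _)
  letI : Module (ZMod p) (Additive M) := AddCommGroup.zmodModule (n := p) hexp'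
  let A : ι → Submodule (ZMod p) (Additive M) := fun i =>
    AddSubgroup.toZModSubmodule p (Subgroup.toAddSubgroup (B i))
  have hmem : ∀ i (v : Additive M), v ∈ A i ↔ Additive.toMul v ∈ B i := fun i v => Iff.rfl
  have hM : Nat.card (Additive M) = Nat.card M := Nat.card_congr Additive.toMul
  have hcard : ∀ i, Nat.card (A i) = Nat.card (B i) := fun i => Nat.card_congr
    { toFun := fun v => ⟨Additive.toMul v.1, v.2⟩
      invFun := fun g => ⟨Additive.ofMul g.1, g.2⟩
      left_inv := fun _ => rfl
      right_inv := fun _ => rfl }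
  have hP : Pencils A d := by
    refine ⟨hd, fun i => by rw [hcard, hM, hA], fun i j hij => ?_, fun i j hij v => ?_,
      fun v hv => ?_, h2⟩
    · rw [hM, ← hK i j hij]
      congr 1
    · obtain ⟨l, hl, hle⟩ := hcov i j hij (Additive.toMul v)
      exact ⟨l, hl, fun w hw => hle hw⟩
    · exact Additive.toMul.injective (hbot _ hv)
  refine ⟨by rw [← hM]; exact hP.card_index, fun a ha => ?_⟩
  intro _
  have ha0 : Additive.ofMul a ≠ 0 := fun h => ha (congrArg Additive.toMul h)
  have e : (univ.filter fun i => Additive.ofMul a ∈ A i) = univ.filter fun i => a ∈ B i := by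
    ext i; simp only [mem_filter, hmem, toMul_ofMul]
  refine ⟨by rw [← e, ← hM]; exact hP.card_through ha0, fun hne => ?_⟩
  rw [← hP.card_axis_group ha0 (e ▸ hne)]
  exact Nat.card_congr
    { toFun := fun m => ⟨Additive.ofMul m.1, fun i hi => m.2 i hi⟩
      invFun := fun v => ⟨Additive.toMul v.1, fun i hi => v.2 i hi⟩
      left_inv := fun _ => rfl
      right_inv := fun _ => rfl }

end CfsgLib.ONanLines
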