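import Cfsg.Agent.Lib.Recog.ONanLines.LinearSpace
import Cfsg.Agent.Lib.Recog.ONanLines.Duality
import Cfsg.Agent.Lib.Recog.SymmDesign.Elation
import Mathlib.Algebra.Module.ZMod
import Mathlib.Algebra.Field.ZMod

/-!
# The fixed point sets of the non-trivial elements form a symmetric design
-/

set_option autoImplicit false

open Finset
open scoped Pointwise

namespace CfsgLib.ONanLines

namespace Sys

variable {G X : Type*} [Group G] [MulAction G X] [Finite G] [Fintype X] [DecidableEq X]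
  (S : Sys G X)

/-- The fixed points. -/
def Fix (_S : Sys G X) (a : G) : Finset X := univ.filter fun w => a • w = w

theorem mem_Fix {a : G} {w : X} : w ∈ S.Fix a ↔ a • w = w := by simp [Fix]

theorem smul_Fix (g a : G) : g • S.Fix a = S.Fix (g * a * g⁻¹) := by
  ext w
  rw [← inv_smul_mem_iff, mem_Fix, mem_Fix, mul_smul, mul_smul, eq_inv_smul_iff]

theorem L_subset_Fix {x y z : X} (hyz : y ≠ z) {a : G} (ha : a ∈ S.M x) (hy : y ∈ S.Fix a)
    (hz : z ∈ S.Fix a) {w : X} (hw : w ∈ S.L y z) : w ∈ S.Fix a :=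
  (S.mem_Fix).2 (S.fixes_L hyz ha ((S.mem_Fix).1 hy) ((S.mem_Fix).1 hz) hw)

theorem A_eq_iff {x y z : X} (hxy : x ≠ y) (hxz : x ≠ z) :
    S.A x y = S.A x z ↔ z ∈ S.L x y := by
  constructor
  · intro h
    by_cases hyz : y = z
    · exact hyz ▸ S.right_mem_L x y
    by_contra hzL
    have hx : x ∉ S.E y z := by
      rw [S.E_eq_L hyz]
      intro hx
      rw [S.L_eq hyz hxy hx (S.left_mem_L y z)] at hzL
      exact hzL (S.right_mem_L y z)
    have h1 := S.card_inter hxy hyz hxz hx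
    rw [← h, inf_idem] at h1
    have h2 := S.two_le_card_O hxy
    have h3 : 0 < Nat.card ↥(S.A x y) := Nat.card_pos
    nlinarith
  · intro hz
    rcases hz with rfl | hz
    · exact absurd rfl hxz
    · exact (S.A_left_of_O hxy hz).symm

set_option maxHeartbeats 800000 in
/-- The parameters at one point. -/
theorem local_params {x y : X} (hxy : x ≠ y) {a : G} (ha : a ∈ S.M x) (ha1 : a ≠ 1) :
    (∀ T : Finset (Subgroup G), (∀ H, H ∈ T ↔ ∃ z, x ≠ z ∧ S.A x z = H) →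
      #T * (Nat.card (S.O x y) - 1) + 1 = Nat.card (S.M x) ∧
      #T * Nat.card (S.O x y) + 1 = Fintype.card X ∧
      #(S.Fix a) = #T ∧ 2 ≤ #T ∧ 2 ≤ #(S.Fix a)) ∧
    Nat.card {m : S.M x // S.Fix a ⊆ S.Fix (m : G)} = Nat.card (S.O x y) := by
  classical
  haveI := Fintype.ofFinite G
  letI : CommGroup (S.M x) :=
    { (inferInstance : Group (S.M x)) with
      mul_comm := fun u v => Subtype.ext (S.comm x u v u.2 v.2) }
  set d := Nat.card (S.O x y) with hd
  have hd2 : 2 ≤ d := S.two_le_card_O hxy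
  have hOd : ∀ z, x ≠ z → Nat.card (S.O x z) = d := fun z hz => S.card_O_eq hz hxy
  set T₀ : Finset (Subgroup G) := (univ.filter fun z => x ≠ z).image (S.A x) with hT₀
  let A' : T₀ → Subgroup (S.M x) := fun H => (H : Subgroup G).subgroupOf (S.M x)
  have hA' : ∀ (H : T₀) (v : S.M x), v ∈ A' H ↔ (v : G) ∈ (H : Subgroup G) := fun H v =>
    Subgroup.mem_subgroupOf
  have hrep : ∀ H : T₀, ∃ z, x ≠ z ∧ S.A x z = H := fun H => by
    obtain ⟨z, hz, e⟩ := mem_image.1 H.2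
    exact ⟨z, (mem_filter.1 hz).2, e⟩
  have hmemA : ∀ (H : T₀) (z : X), x ≠ z → S.A x z = H → ∀ v : S.M x,
      v ∈ A' H ↔ (v : G) • z = z := fun H z _ e v => by
    rw [hA', ← e]
    exact ⟨fun h => h.2, fun h => ⟨v.2, h⟩⟩
  have hcA : ∀ H : T₀, Nat.card (A' H) = Nat.card (H : Subgroup G) := fun H => by
    obtain ⟨z, hz, e⟩ := hrep H
    exact Nat.card_congr
      { toFun := fun v => ⟨_, (hA' H v.1).1 v.2⟩
        invFun := fun g => ⟨⟨g.1, (e.symm ▸ g.2 : g.1 ∈ S.A x z).1⟩, (hA' H _).2 g.2⟩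
        left_inv := fun _ => rfl
        right_inv := fun _ => rfl }
  obtain ⟨h1, hP⟩ := subgroup_pencils (M := S.M x) S.prime
    (fun m => Subtype.ext (by rw [SubgroupClass.coe_pow]; exact S.pow_p x _ m.2)) A' hd2
    (fun H => by
      obtain ⟨z, hz, e⟩ := hrep H
      rw [hcA, ← e, ← hOd z hz, ← S.card_M_eq x z])
    (fun H H' hne => by
      obtain ⟨z, hz, e⟩ := hrep H
      obtain ⟨z', hz', e'⟩ := hrep H'
      have hne' : S.A x z ≠ S.A x z' := fun h => hne (Subtype.ext (e.symm.trans (h.trans e')))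
      have hzz : z ≠ z' := fun h => hne' (h ▸ rfl)
      have hx : x ∉ S.E z z' := fun hx => by
        rw [S.E_eq_L hzz] at hx
        refine hne' ((S.A_eq_iff hz hz').2 ?_)
        rw [S.L_eq hzz hz hx (S.left_mem_L z z')]
        exact S.right_mem_L z z'
      have hc : Nat.card ↥(A' H ⊓ A' H') = Nat.card ↥(S.A x z ⊓ S.A x z') := Nat.card_congr
        { toFun := fun v => ⟨(v.1 : G), e.symm ▸ (hA' H v.1).1 v.2.1,
            e'.symm ▸ (hA' H' v.1).1 v.2.2⟩
          invFun := fun g => ⟨⟨g.1, g.2.1.1⟩,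
            (hmemA H z hz e _).2 g.2.1.2, (hmemA H' z' hz' e' _).2 g.2.2.2⟩
          left_inv := fun _ => rfl
          right_inv := fun _ => rfl }
      rw [hc, ← mul_assoc, ← hOd z hz, S.card_inter hz hzz hz' hx, ← S.card_M_eq x z])
    (fun H H' hne v => by
      obtain ⟨z, hz, e⟩ := hrep H
      obtain ⟨z', hz', e'⟩ := hrep H'
      have hne' : S.A x z ≠ S.A x z' := fun h => hne (Subtype.ext (e.symm.trans (h.trans e')))
      have hzz : z ≠ z' := fun h => hne' (h ▸ rfl)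
      have hx : x ∉ S.L z z' := fun hx => hne' ((S.A_eq_iff hz hz').2 (by
        rw [S.L_eq hzz hz hx (S.left_mem_L z z')]; exact S.right_mem_L z z'))
      obtain ⟨u, hu, hmu⟩ := S.pencil hzz hx v.2
      have hxu : x ≠ u := fun h => hx (h ▸ hu)
      let H'' : T₀ := ⟨S.A x u, mem_image.2 ⟨u, mem_filter.2 ⟨mem_univ _, hxu⟩, rfl⟩⟩
      refine ⟨H'', (hmemA H'' u hxu rfl v).2 hmu, fun w hw => (hmemA H'' u hxu rfl w).2 ?_⟩
      exact S.fixes_L hzz w.2 ((hmemA H z hz e w).1 hw.1) ((hmemA H' z' hz' e' w).1 hw.2) hu)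
    (fun v hv => Subtype.ext (S.faithful _ fun z => by
      by_cases hz : x = z
      · exact hz ▸ S.fixes x _ v.2
      · exact (hmemA ⟨S.A x z, mem_image.2 ⟨z, mem_filter.2 ⟨mem_univ _, hz⟩, rfl⟩⟩ z hz rfl v).1
          (hv _)))
    (by
      obtain ⟨z, hz⟩ := S.exists_not_E hxy
      have hxz : x ≠ z := fun h => hz (h ▸ S.left_mem_E)
      refine ⟨⟨S.A x y, mem_image.2 ⟨y, mem_filter.2 ⟨mem_univ _, hxy⟩, rfl⟩⟩,
        ⟨S.A x z, mem_image.2 ⟨z, mem_filter.2 ⟨mem_univ _, hxz⟩, rfl⟩⟩, fun h => ?_⟩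
      rw [S.E_eq_L hxy] at hz
      exact hz ((S.A_eq_iff hxy hxz).1 (congrArg Subtype.val h)))
  rw [Fintype.card_coe] at h1
  set v₀ : S.M x := ⟨a, ha⟩ with hv₀
  have hv₀1 : v₀ ≠ 1 := fun h => ha1 (congrArg Subtype.val h)
  obtain ⟨h2, haxis⟩ := hP v₀ hv₀1
  set n := #(univ.filter fun H : T₀ => v₀ ∈ A' H) with hn
  -- the fixed points are `x` and the lines of the members through `a`
  have hfib : ∀ H : T₀, #(univ.filter fun z => x ≠ z ∧ S.A x z = H) = d := fun H => by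
    obtain ⟨z, hz, e⟩ := hrep H
    rw [← hOd z hz, Nat.subtype_card (univ.filter fun w => w ∈ S.O x z) (by simp)]
    congr 1; ext w
    simp only [mem_filter, mem_univ, true_and]
    refine ⟨fun ⟨hw, hw'⟩ => ?_,
      fun hw => ⟨S.ne_of_mem_O hz hw, (S.A_left_of_O hz hw).trans e⟩⟩
    rcases (S.A_eq_iff hz hw).1 (e.trans hw'.symm) with h | h
    exacts [absurd h.symm hw, h]
  have hX : #T₀ * d + 1 = Fintype.card X := by
    rw [← card_univ, ← card_erase_add_one (mem_univ x)]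
    congr 1
    rw [show univ.erase x = (univ : Finset T₀).biUnion
        fun H : T₀ => univ.filter fun z => x ≠ z ∧ S.A x z = H from ?_, card_biUnion ?_,
      sum_congr rfl (g := fun _ => d) fun H _ => hfib H, sum_const, smul_eq_mul, card_univ,
      Fintype.card_coe]
    · intro H _ H' _ hne
      simp only [Function.onFun, disjoint_left, mem_filter]
      exact fun z ⟨_, _, h⟩ ⟨_, _, h'⟩ => hne (Subtype.ext (h.symm.trans h'))
    · ext z
      simp only [mem_erase, mem_univ, and_true, mem_biUnion, mem_filter, true_and]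
      exact ⟨fun h => ⟨⟨S.A x z, mem_image.2 ⟨z, mem_filter.2 ⟨mem_univ _, Ne.symm h⟩, rfl⟩⟩,
        Ne.symm h, rfl⟩, fun ⟨_, h, _⟩ => Ne.symm h⟩
  have hFix : #(S.Fix a) = n * d + 1 := by
    rw [← card_erase_add_one ((S.mem_Fix).2 (S.fixes x a ha) : x ∈ S.Fix a)]
    congr 1
    rw [show (S.Fix a).erase x = (univ.filter fun H : T₀ => v₀ ∈ A' H).biUnion
        (fun H : T₀ => univ.filter fun z => x ≠ z ∧ S.A x z = H) from ?_, card_biUnion ?_,
      sum_congr rfl (g := fun _ => d) fun H _ => hfib H, sum_const, smul_eq_mul]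
    · intro H _ H' _ hne
      simp only [Function.onFun, disjoint_left, mem_filter]
      exact fun z ⟨_, _, h⟩ ⟨_, _, h'⟩ => hne (Subtype.ext (h.symm.trans h'))
    · ext z
      simp only [mem_erase, mem_Fix, mem_biUnion, mem_filter, mem_univ, true_and]
      constructor
      · rintro ⟨h, hz⟩
        exact ⟨⟨S.A x z, mem_image.2 ⟨z, mem_filter.2 ⟨mem_univ _, Ne.symm h⟩, rfl⟩⟩,
          (hmemA _ z (Ne.symm h) rfl v₀).2 hz, Ne.symm h, rfl⟩
      · rintro ⟨H, hH, hz, e⟩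
        exact ⟨Ne.symm hz, (hmemA H z hz e v₀).1 hH⟩
  obtain ⟨c, hc⟩ := Nat.exists_eq_add_of_le (show 1 ≤ d by omega)
  have hn0 : 0 < n := by
    rcases Nat.eq_zero_or_pos n with h | h
    · exfalso
      rw [h, zero_mul, zero_add, one_mul] at h2
      obtain ⟨m, hm, hm1, hmy⟩ := S.nontrivial x y hxy
      have h3 : 2 ≤ Nat.card (S.A x y) := Finite.one_lt_card_iff_nontrivial.2
        ⟨⟨m, hm, hmy⟩, 1, fun e => hm1 (congrArg Subtype.val e)⟩
      have h4 := S.card_M_eq x y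
      rw [← hd] at h4
      nlinarith
    · exact h
  have hk : #(S.Fix a) = #T₀ := by
    rw [hFix]
    refine Nat.eq_of_mul_eq_mul_right (m := c) (by omega) ?_
    rw [hc, Nat.add_sub_cancel_left] at h1 h2
    rw [hc]
    nlinarith
  have hT2 : 2 ≤ #T₀ := by
    rw [← hk, hFix]
    have := Nat.mul_le_mul hn0 hd2
    omega
  refine ⟨fun T hT => ?_, ?_⟩
  · have e : T = T₀ := by
      ext H
      rw [hT, hT₀, mem_image]
      exact ⟨fun ⟨z, hz, e⟩ => ⟨z, mem_filter.2 ⟨mem_univ _, hz⟩, e⟩,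
        fun ⟨z, hz, e⟩ => ⟨z, (mem_filter.1 hz).2, e⟩⟩
    subst e
    exact ⟨h1, hX, hk, hT2, hk ▸ hT2⟩
  · have hne : (univ.filter fun H : T₀ => v₀ ∈ A' H).Nonempty := card_pos.1 hn0
    rw [← haxis hne]
    refine Nat.card_congr
      { toFun := fun m => ⟨m.1, fun H hH => ?_⟩
        invFun := fun v => ⟨v.1, fun z hz => ?_⟩
        left_inv := fun _ => rfl
        right_inv := fun _ => rfl }
    · obtain ⟨z, hz, e⟩ := hrep H
      exact (hmemA H z hz e _).2 ((S.mem_Fix).1 (m.2 ((S.mem_Fix).2 ((hmemA H z hz e v₀).1 hH))))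
    · rw [mem_Fix] at hz ⊢
      by_cases hxz : x = z
      · exact hxz ▸ S.fixes x _ v.1.2
      · let H : T₀ := ⟨S.A x z, mem_image.2 ⟨z, mem_filter.2 ⟨mem_univ _, hxz⟩, rfl⟩⟩
        exact (hmemA H z hxz rfl v.1).1 (v.2 H ((hmemA H z hxz rfl v₀).2 hz))

theorem exists_moving {w x : X} (hwx : w ≠ x) :
    ∃ u ∈ S.L x w, ∃ n ∈ S.M u, n • x = w := by
  obtain ⟨m, hm, hmw⟩ := S.exists_moved hwx.symm
  refine ⟨m • w, Or.inr ⟨m, hm, rfl⟩, ?_⟩
  have hu : m • w ∈ S.L x w := Or.inr ⟨m, hm, rfl⟩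
  have hxu : x ≠ m • w := S.ne_of_mem_O hwx.symm ⟨m, hm, rfl⟩
  have : w ∈ S.L (m • w) x := by
    rw [S.L_eq hwx.symm hxu.symm hu (S.left_mem_L x w)]; exact S.right_mem_L x w
  rcases this with h | ⟨n, hn, hn'⟩
  exacts [absurd h.symm hmw, ⟨n, hn, hn'⟩]

/-- A subspace is mapped to itself by every elation centred in it. -/
theorem smul_Fix_of_mem {x u : X} {a n : G} (ha : a ∈ S.M x) (hu : u ∈ S.Fix a) (hn : n ∈ S.M u) :
    n • S.Fix a = S.Fix a := by
  refine eq_of_subset_of_card_le (fun w hw => ?_) (card_smul_finset n _).ge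
  obtain ⟨t, ht, rfl⟩ := mem_smul_finset.1 hw
  by_cases htu : u = t
  · exact htu ▸ (S.fixes u n hn).symm ▸ hu
  · exact S.L_subset_Fix htu ha hu ht (S.smul_mem_L hn (S.right_mem_L u t))

theorem centre_transfer {x w : X} {a : G} (ha : a ∈ S.M x) (ha1 : a ≠ 1) (hw : w ∈ S.Fix a) :
    ∃ b ∈ S.M w, b ≠ 1 ∧ S.Fix b = S.Fix a := by
  by_cases hwx : w = x
  · exact ⟨a, hwx ▸ ha, ha1, rfl⟩
  obtain ⟨u, hu, n, hn, hnx⟩ := S.exists_moving hwx
  have hxF : x ∈ S.Fix a := (S.mem_Fix).2 (S.fixes x a ha)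
  have huF := S.L_subset_Fix (Ne.symm hwx) ha hxF hw hu
  refine ⟨n * a * n⁻¹, hnx ▸ S.conj n x a ha, fun e => ha1 (by simpa using e), ?_⟩
  rw [← smul_Fix, S.smul_Fix_of_mem ha huF hn]

set_option maxHeartbeats 800000 in
include S in
/-- The design of fixed point sets, with all the transitivity that is needed. -/
theorem exists_rich (hne : ∃ x y : X, x ≠ y) :
    ∃ D : SymmDesign.Design X, SymmDesign.Rich D G := by
  classical
  haveI := Fintype.ofFinite G
  obtain ⟨x₀, y₀, hxy₀⟩ := hne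
  have hother : ∀ x : X, ∃ y, x ≠ y := fun x => by
    by_cases h : x = x₀
    · exact ⟨y₀, h ▸ hxy₀⟩
    · exact ⟨x₀, h⟩
  set d := Nat.card (S.O x₀ y₀) with hd
  have hd2 : 2 ≤ d := S.two_le_card_O hxy₀
  let T : X → Finset (Subgroup G) := fun x => (univ.filter fun z => x ≠ z).image (S.A x)
  have hT : ∀ x H, H ∈ T x ↔ ∃ z, x ≠ z ∧ S.A x z = H := fun x H => by simp [T]
  set k := #(T x₀) with hk
  obtain ⟨a₀, ha₀, ha₀1, ha₀y⟩ := S.nontrivial x₀ y₀ hxy₀
  obtain ⟨e1, e2, e3, e4, -⟩ := (S.local_params hxy₀ ha₀ ha₀1).1 _ (hT x₀)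
  rw [← hd, ← hk] at e1 e2
  have hparam : ∀ x a, a ∈ S.M x → a ≠ 1 → #(S.Fix a) = k ∧
      Nat.card {m : S.M x // S.Fix a ⊆ S.Fix (m : G)} = d ∧ Nat.card (S.M x) = k * (d - 1) + 1 ∧
      #(T x) = k := by
    intro x a ha ha1
    obtain ⟨y, hy⟩ := hother x
    have hdd : Nat.card (S.O x y) = d := S.card_O_eq hy hxy₀
    obtain ⟨h1, h2⟩ := S.local_params hy ha ha1
    obtain ⟨f1, f2, f3, -, -⟩ := h1 _ (hT x)
    rw [hdd] at f1 f2
    have hTk : #(T x) = k := Nat.eq_of_mul_eq_mul_right (m := d) (by omega) (by omega)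
    exact ⟨f3.trans hTk, h2.trans hdd, by rw [← f1, hTk], hTk⟩
  have hnt : ∀ x, ∃ a ∈ S.M x, a ≠ 1 := fun x => by
    obtain ⟨y, hy⟩ := hother x
    obtain ⟨a, ha, ha1, -⟩ := S.nontrivial x y hy
    exact ⟨a, ha, ha1⟩
  set blocks : Finset (Finset X) := (univ.filter fun a : G => a ≠ 1 ∧ ∃ x, a ∈ S.M x).image S.Fix
    with hblocks
  have hblk : ∀ B, B ∈ blocks ↔ ∃ x a, a ∈ S.M x ∧ a ≠ 1 ∧ S.Fix a = B := fun B => by
    simp only [hblocks, mem_image, mem_filter, mem_univ, true_and]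
    exact ⟨fun ⟨a, ⟨ha1, x, hx⟩, e⟩ => ⟨x, a, hx, ha1, e⟩,
      fun ⟨x, a, hx, ha1, e⟩ => ⟨a, ⟨ha1, x, hx⟩, e⟩⟩
  have hcentre : ∀ B ∈ blocks, ∀ w ∈ B, ∃ a ∈ S.M w, a ≠ 1 ∧ S.Fix a = B := fun B hB w hw => by
    obtain ⟨x, a, ha, ha1, rfl⟩ := (hblk B).1 hB
    exact S.centre_transfer ha ha1 hw
  have hsize : ∀ B ∈ blocks, #B = k := fun B hB => by
    obtain ⟨x, a, ha, ha1, rfl⟩ := (hblk B).1 hB
    exact (hparam x a ha ha1).1
  have hthru : ∀ x, #(blocks.filter fun B => x ∈ B) = k := fun x => by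
    obtain ⟨a, ha, ha1⟩ := hnt x
    have hM := (hparam x a ha ha1).2.2.1
    set s : Finset G := univ.filter fun m => m ∈ S.M x ∧ m ≠ 1 with hs
    have himg : blocks.filter (fun B => x ∈ B) = s.image S.Fix := by
      ext B
      simp only [mem_filter, hs, mem_image, mem_univ, true_and]
      refine ⟨fun ⟨hB, hx⟩ => ?_, fun ⟨m, ⟨hm, hm1⟩, e⟩ =>
        ⟨(hblk B).2 ⟨x, m, hm, hm1, e⟩, e ▸ (S.mem_Fix).2 (S.fixes x m hm)⟩⟩
      obtain ⟨b, hb, hb1, e⟩ := hcentre B hB x hx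
      exact ⟨b, ⟨hb, hb1⟩, e⟩
    have hscard : #s + 1 = Nat.card (S.M x) := by
      rw [Nat.subtype_card (univ.filter fun m => m ∈ S.M x) (by simp),
        ← card_erase_add_one (s := univ.filter fun m => m ∈ S.M x) (a := 1) (by simp)]
      congr 2; ext m; simp [hs, and_comm]
    have hfib : ∀ B ∈ s.image S.Fix, #(s.filter fun m => S.Fix m = B) = d - 1 := by
      intro B hB
      obtain ⟨b, hb, rfl⟩ := mem_image.1 hB
      obtain ⟨hbM, hb1⟩ := (mem_filter.1 hb).2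
      obtain ⟨hbk, hbd, -, -⟩ := hparam x b hbM hb1
      have e : #(univ.filter fun m => m ∈ S.M x ∧ S.Fix b ⊆ S.Fix m) = d := by
        rw [← hbd, ← Nat.subtype_card (p := fun m => m ∈ S.M x ∧ S.Fix b ⊆ S.Fix m) _ (by simp)]
        exact Nat.card_congr
          { toFun := fun m => ⟨⟨m.1, m.2.1⟩, m.2.2⟩
            invFun := fun m => ⟨m.1.1, m.1.2, m.2⟩
            left_inv := fun _ => rfl
            right_inv := fun _ => rfl }
      rw [← e, ← card_erase_of_mem (a := (1 : G))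
        (mem_filter.2 ⟨mem_univ _, one_mem _, fun w _ => (S.mem_Fix).2 (one_smul G w)⟩)]
      congr 1
      ext m
      simp only [hs, mem_filter, mem_univ, true_and, mem_erase]
      refine ⟨fun ⟨⟨hm, hm1⟩, h⟩ => ⟨hm1, hm, h.ge⟩, fun ⟨hm1, hm, h⟩ => ⟨⟨hm, hm1⟩, ?_⟩⟩
      exact (eq_of_subset_of_card_le h (by rw [(hparam x m hm hm1).1, hbk])).symm
    have h1 := card_eq_sum_card_image S.Fix s
    rw [sum_congr rfl hfib, sum_const, smul_eq_mul, ← himg] at h1
    rw [h1, hM] at hscard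
    exact Nat.eq_of_mul_eq_mul_right (m := d - 1) (by omega) (by omega)
  have hnb : #blocks = Fintype.card X := by
    have h1 := SymmDesign.double_count (univ : Finset X) blocks fun x B => x ∈ B
    rw [sum_congr rfl (g := fun _ => k) fun x _ => hthru x, sum_const,
      sum_congr rfl (g := fun _ => k) fun B hB => by rw [filter_univ_mem, hsize B hB],
      sum_const, card_univ, smul_eq_mul, smul_eq_mul] at h1
    exact (Nat.eq_of_mul_eq_mul_right (by omega) h1).symm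
  have hAut : ∀ (g : G), ∀ B ∈ blocks, g • B ∈ blocks := fun g B hB => by
    obtain ⟨x, a, ha, ha1, rfl⟩ := (hblk B).1 hB
    exact (hblk _).2 ⟨g • x, g * a * g⁻¹, S.conj g x a ha, fun e => ha1 (by simpa using e),
      (S.smul_Fix g a).symm⟩
  have hpair : ∀ x y, x ≠ y → #(blocks.filter fun B => x ∈ B ∧ y ∈ B) =
      #(blocks.filter fun B => x₀ ∈ B ∧ y₀ ∈ B) := fun x y hxy => by
    obtain ⟨g, rfl, rfl⟩ := S.two x₀ y₀ x y hxy₀ hxy
    refine (card_equiv (MulAction.toPerm g) fun B => ?_).symm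
    simp only [mem_filter, MulAction.toPerm_apply, smul_mem_smul_finset_iff]
    refine and_congr_left fun _ => ⟨hAut g B, fun h => ?_⟩
    have := hAut g⁻¹ _ h
    rwa [inv_smul_smul] at this
  have hdk : k + 2 ≤ Fintype.card X := by
    have := Nat.mul_le_mul_left k hd2
    omega
  let D : SymmDesign.Design X :=
    { blocks := blocks
      k := k
      lam := #(blocks.filter fun B => x₀ ∈ B ∧ y₀ ∈ B)
      card_blocks := hnb
      card_block := hsize
      card_thru := hthru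
      card_pair := hpair
      two_le_k := e4
      k_add_two_le := hdk }
  have honB : ∀ B ∈ D.blocks, ∀ x ∈ B, ∀ y ∈ B, ∃ g : G, g • B = B ∧ g • x = y := by
    intro B hB x hx y hy
    by_cases hyx : y = x
    · exact ⟨1, one_smul _ _, by rw [one_smul, hyx]⟩
    obtain ⟨a, ha, ha1, rfl⟩ := hcentre B hB x hx
    obtain ⟨u, hu, n, hn, hnx⟩ := S.exists_moving hyx
    exact ⟨n, S.smul_Fix_of_mem ha (S.L_subset_Fix (Ne.symm hyx) ha hx hy hu) hn, hnx⟩
  have hoffB : ∀ B ∈ D.blocks, ∀ x, x ∉ B → ∀ y, y ∉ B → ∃ g : G, g • B = B ∧ g • x = y := by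
    intro B hB x hx y hy
    by_cases hxy : x = y
    · exact ⟨1, one_smul _ _, by rw [one_smul, hxy]⟩
    obtain ⟨a, ha, ha1⟩ := hnt x
    have hxw : ∀ w ∈ B, x ≠ w := fun w hw h => hx (h ▸ hw)
    have hinj : Set.InjOn (S.A x) B := fun w hw w' hw' e => by
      by_contra hne
      obtain ⟨x₁, b, hb, hb1, e1⟩ := (hblk B).1 hB
      have h := (S.A_eq_iff (hxw w hw) (hxw w' hw')).1 e
      have hxL : x ∈ S.L w w' := by
        rw [S.L_eq (hxw w hw) hne (S.right_mem_L x w) h]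
        exact S.left_mem_L x w
      exact hx (e1 ▸ S.L_subset_Fix hne hb (e1.symm ▸ hw) (e1.symm ▸ hw') hxL)
    have himg : B.image (S.A x) = T x := by
      refine eq_of_subset_of_card_le (fun H hH => ?_) ?_
      · obtain ⟨w, hw, rfl⟩ := mem_image.1 hH
        exact (hT x _).2 ⟨w, hxw w hw, rfl⟩
      · rw [card_image_of_injOn hinj, hsize B hB, (hparam x a ha ha1).2.2.2]
    have hmem : S.A x y ∈ B.image (S.A x) := himg ▸ (hT x _).2 ⟨y, hxy, rfl⟩
    obtain ⟨w, hw, hwy⟩ := mem_image.1 hmem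
    have hyL := (S.A_eq_iff (hxw w hw) hxy).1 hwy
    rw [← S.L_comm (hxw w hw)] at hyL
    have hyO : y ∈ S.O w x := hyL.resolve_left fun h => hy (h ▸ hw)
    obtain ⟨b, hb, hb1, hbB⟩ := hcentre B hB w hw
    have hcard := (hparam w b hb hb1).2.1
    haveI : Finite (S.O w x) := Set.Finite.to_subtype (Set.toFinite _)
    let f : {m : S.M w // S.Fix b ⊆ S.Fix (m : G)} → S.O w x :=
      fun m => ⟨(m.1 : G) • x, m.1.1, m.1.2, rfl⟩
    have hf : Function.Bijective f := (Nat.bijective_iff_injective_and_card f).2 ⟨fun m m' e => by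
      have e' : ((m.1⁻¹ * m'.1 : S.M w) : G) • x = x := by
        rw [Subgroup.coe_mul, Subgroup.coe_inv, mul_smul, inv_smul_eq_iff]
        exact (congrArg Subtype.val e :).symm
      by_contra hne
      have h1 : ((m.1⁻¹ * m'.1 : S.M w) : G) ≠ 1 := fun h =>
        hne (Subtype.ext (inv_mul_eq_one.1 (Subtype.ext h : m.1⁻¹ * m'.1 = 1)))
      have hsub : S.Fix b ⊆ S.Fix ((m.1⁻¹ * m'.1 : S.M w) : G) := fun z hz => by
        rw [mem_Fix, Subgroup.coe_mul, Subgroup.coe_inv, mul_smul, inv_smul_eq_iff,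
          (S.mem_Fix).1 (m.2 hz), (S.mem_Fix).1 (m'.2 hz)]
      have heq := eq_of_subset_of_card_le hsub (by
        rw [(hparam w _ (m.1⁻¹ * m'.1).2 h1).1, (hparam w b hb hb1).1])
      exact hx (hbB ▸ heq ▸ (S.mem_Fix).2 e'),
      hcard.trans (S.card_O_eq hxy₀ (fun h => hx (h ▸ hw)))⟩
    obtain ⟨m, hm⟩ := hf.2 ⟨y, hyO⟩
    refine ⟨m.1.1, ?_, congrArg Subtype.val hm⟩
    refine eq_of_subset_of_card_le (fun z hz => ?_) (card_smul_finset _ B).ge
    obtain ⟨t, ht, rfl⟩ := mem_smul_finset.1 hz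
    rwa [(S.mem_Fix).1 (m.2 (hbB.symm ▸ ht))]
  refine ⟨D, hAut, S.faithful, S.two, honB, hoffB, ?_, ?_⟩
  · intro B hB C hC hCB C' hC' hC'B
    obtain ⟨x₁, hx₁⟩ : B.Nonempty := card_pos.1 (by rw [D.card_block B hB]; have := D.two_le_k; omega)
    obtain ⟨y₁, hy₁⟩ := SymmDesign.Design.exists_not_mem hB
    have horb : Nat.card (Quotient (MulAction.orbitRel (MulAction.stabilizer G B) X)) = 2 := by
      refine (SymmDesign.two_orbits_iff (fun u => u ∈ B) (fun s u => ?_) (a := x₁) (b := y₁) hx₁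
        hy₁).2 ⟨fun u hu => ?_, fun u hu => ?_⟩
      · obtain ⟨g, hg⟩ := s
        rw [MulAction.mem_stabilizer_iff] at hg
        show g • u ∈ B ↔ u ∈ B
        conv_lhs => rw [← hg]
        exact smul_mem_smul_finset_iff _
      · obtain ⟨g, hg, hgu⟩ := honB B hB x₁ hx₁ u hu
        exact ⟨⟨g, hg⟩, hgu⟩
      · obtain ⟨g, hg, hgu⟩ := hoffB B hB y₁ hy₁ u hu
        exact ⟨⟨g, hg⟩, hgu⟩
    rw [SymmDesign.Design.card_orbits_eq (show D.IsAut G from hAut)] at horb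
    have := ((SymmDesign.two_orbits_iff
      (fun A : SymmDesign.Design.blk (show D.IsAut G from hAut) => A.1 = B)
      (fun s A => by
        obtain ⟨g, hg⟩ := s
        rw [MulAction.mem_stabilizer_iff] at hg
        show g • A.1 = B ↔ _
        conv_lhs => rhs; rw [← hg]
        exact (MulAction.injective g).eq_iff)
      (a := ⟨B, hB⟩) (b := ⟨C, hC⟩) rfl hCB).1 horb).2 ⟨C', hC'⟩ hC'B
    obtain ⟨s, hs⟩ := this
    exact ⟨s.1, s.2, congrArg Subtype.val hs⟩
  · intro B hB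
    obtain ⟨x, a, ha, ha1, rfl⟩ := (hblk B).1 hB
    exact ⟨a, ha1, fun w hw => (S.mem_Fix).1 hw⟩

end Sys

end CfsgLib.ONanLines
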