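import Cfsg.Agent.Lib.Recog.ONanLines.Lines
import Mathlib.Data.Fintype.BigOperators
import Mathlib.Tactic.Linarith
import Mathlib.Tactic.Ring

/-!
# The lines of the linear space
-/

set_option autoImplicit false

open Finset

namespace CfsgLib.ONanLines

namespace Sys

variable {G X : Type*} [Group G] [MulAction G X] (S : Sys G X)

/-- The line through two points. -/
def L (x y : X) : Set X := insert x (S.O x y)

theorem mem_O_self (x y : X) : y ∈ S.O x y := ⟨1, one_mem _, one_smul G y⟩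

theorem card_O_map (g : G) (x y : X) : Nat.card (S.O (g • x) (g • y)) = Nat.card (S.O x y) := by
  refine (Nat.card_congr (α := S.O x y) (β := S.O (g • x) (g • y))
    { toFun := fun w => ⟨g • w.1, ?_⟩
      invFun := fun w => ⟨g⁻¹ • w.1, ?_⟩
      left_inv := fun w => Subtype.ext (inv_smul_smul g _)
      right_inv := fun w => Subtype.ext (smul_inv_smul g _) }).symm
  · obtain ⟨n, hn, hnw⟩ := w.2
    exact ⟨g * n * g⁻¹, S.conj g x n hn, by rw [mul_smul, inv_smul_smul, mul_smul, hnw]⟩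
  · obtain ⟨n, hn, hnw⟩ := w.2
    exact ⟨g⁻¹ * n * g, S.conj' g x hn, by rw [mul_smul, mul_smul, hnw]⟩

theorem card_O_eq {x y x' y' : X} (h : x ≠ y) (h' : x' ≠ y') :
    Nat.card (S.O x y) = Nat.card (S.O x' y') := by
  obtain ⟨g, rfl, rfl⟩ := S.two x y x' y' h h'
  exact (S.card_O_map g x y).symm

theorem card_M_eq (x y : X) : Nat.card (S.M x) = Nat.card (S.A x y) * Nat.card (S.O x y) := by
  have e1 : Nat.card (MulAction.stabilizer (S.M x) y) = Nat.card (S.A x y) := Nat.card_congr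
    { toFun := fun a => ⟨a.1.1, a.1.2, a.2⟩
      invFun := fun a => ⟨⟨a.1, a.2.1⟩, a.2.2⟩
      left_inv := fun _ => rfl
      right_inv := fun _ => rfl }
  have e2 : Nat.card (MulAction.orbit (S.M x) y) = Nat.card (S.O x y) :=
    Nat.card_congr (Equiv.setCongr (Set.ext fun w =>
      ⟨fun ⟨n, hn⟩ => ⟨n.1, n.2, hn⟩, fun ⟨n, hn, hw⟩ => ⟨⟨n, hn⟩, hw⟩⟩))
  rw [← e1, ← e2, mul_comm, ← Nat.card_prod]
  exact (Nat.card_congr (MulAction.orbitProdStabilizerEquivGroup (S.M x) y)).symm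

variable [Finite G] [Finite X]

theorem two_le_card_O {x y : X} (hxy : x ≠ y) : 2 ≤ Nat.card (S.O x y) := by
  obtain ⟨n, hn, hny⟩ := S.exists_moved hxy
  exact Finite.one_lt_card_iff_nontrivial.2
    ⟨⟨y, S.mem_O_self x y⟩, ⟨n • y, n, hn, rfl⟩, fun e => hny (congrArg Subtype.val e).symm⟩

theorem exists_not_E {x y : X} (hxy : x ≠ y) : ∃ z, z ∉ S.E x y := by
  by_contra! h
  obtain ⟨a, ha, ha1, hay⟩ := S.nontrivial x y hxy
  exact ha1 (S.faithful a fun w => ((S.mem_E).1 (h w)).1 a ⟨ha, hay⟩)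

theorem E_eq_of_C {x y w w' : X} (hxy : x ≠ y) (hww : w ≠ w') (hw : w ∈ S.C x y)
    (hw' : w' ∈ S.C x y) : S.E w w' = S.E x y ∧ S.C w w' = S.C x y := by
  have h := S.W_eq_of_C hxy hww hw hw'
  have hE : S.E w w' = S.E x y := by simp only [E, h]
  exact ⟨hE, by simp only [C, hE, h]⟩

theorem inter_eq {x y z u u' : X} (hxy : x ≠ y) (hz : z ∉ S.E x y) (hu : u ∈ S.C x y)
    (hu' : u' ∈ S.C x y) (huu : u ≠ u') : S.A z u ⊓ S.A z u' = S.A z x ⊓ S.A z y := by
  obtain ⟨hE, hC⟩ := S.E_eq_of_C hxy huu hu hu'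
  apply le_antisymm
  · rintro k ⟨hku, hku'⟩
    have h := fun w hw => S.fixes_C huu (z := z) (by rw [hE]; exact hz) hku.1 hku.2 hku'.2 (w := w) hw
    exact ⟨⟨hku.1, h x (by rw [hC]; exact S.left_mem_C hxy)⟩,
      hku.1, h y (by rw [hC]; exact S.right_mem_C hxy)⟩
  · rintro k ⟨hkx, hky⟩
    have h := fun w hw => S.fixes_C hxy hz hkx.1 hkx.2 hky.2 (w := w) hw
    exact ⟨⟨hkx.1, h u hu⟩, hkx.1, h u' hu'⟩

/-- The points of `C x y` are the line, and they split `M z` for every point `z` off it. -/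
theorem pencil_main {x y z : X} (hxy : x ≠ y) (hz : z ∉ S.E x y) :
    S.C x y = S.L x y ∧ ∀ m ∈ S.M z, ∃ u ∈ S.C x y, m • u = u := by
  classical
  haveI := Fintype.ofFinite G
  haveI := Fintype.ofFinite X
  have hzx : z ≠ x := fun h => hz (h ▸ S.left_mem_E)
  have hzy : z ≠ y := fun h => hz (h ▸ S.right_mem_E)
  set q := Nat.card (S.A z x) with hq
  set d := Nat.card (S.O z x) with hd
  set K := S.A z x ⊓ S.A z y with hK
  have hc : ∀ H : Subgroup G, Nat.card H = #(univ.filter fun m => m ∈ H) := fun H =>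
    Nat.subtype_card _ (by simp)
  set T : Finset X := univ.filter fun u => u ∈ S.C x y with hT
  have hmemT : ∀ u, u ∈ T ↔ u ∈ S.C x y := fun u => by simp [hT]
  have hqd : Nat.card K * d = q := S.card_inter hzx hxy hzy hz
  have hd2 : 2 ≤ d := S.two_le_card_O hzx
  have hKle : ∀ u ∈ T, K ≤ S.A z u := fun u hu k hk =>
    ⟨hk.1.1, S.fixes_C hxy hz hk.1.1 hk.1.2 hk.2.2 ((hmemT u).1 hu)⟩
  let f : X → Finset G := fun u => univ.filter fun m => m ∈ S.A z u ∧ m ∉ K
  have hfcard : ∀ u ∈ T, #(f u) + Nat.card K = q := fun u hu => by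
    have hzu : z ≠ u := fun h => hz (h ▸ ((hmemT u).1 hu).1)
    rw [hq, S.card_A_eq hzx hzu, hc (S.A z u), hc K, ← card_union_of_disjoint]
    · congr 1
      ext m
      simp only [f, mem_union, mem_filter, mem_univ, true_and]
      exact ⟨fun h => h.elim (·.1) (hKle u hu ·), fun h => (em (m ∈ K)).elim Or.inr fun h' => Or.inl ⟨h, h'⟩⟩
    · rw [disjoint_left]; intro m hm; simp only [f, mem_filter] at hm ⊢; tauto
  have hdisj : (T : Set X).PairwiseDisjoint f := fun u hu u' hu' huu => by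
    simp only [Function.onFun, disjoint_left, f, mem_filter]
    rintro m ⟨-, hm, hmK⟩ ⟨-, hm', -⟩
    exact hmK (hK ▸ S.inter_eq hxy hz ((hmemT u).1 hu) ((hmemT u').1 hu') huu ▸ ⟨hm, hm'⟩)
  set N : Finset G := univ.filter fun m => m ∈ S.M z ∧ m ∉ K with hN
  have hsub : T.biUnion f ⊆ N := fun m hm => by
    obtain ⟨u, -, hu⟩ := mem_biUnion.1 hm
    simp only [f, hN, mem_filter, mem_univ, true_and] at hu ⊢
    exact ⟨hu.1.1, hu.2⟩
  have hNcard : #N + Nat.card K = q * d := by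
    rw [hq, hd, ← S.card_M_eq z x, hc (S.M z), hc K, ← card_union_of_disjoint]
    · congr 1
      ext m
      simp only [hN, mem_union, mem_filter, mem_univ, true_and]
      exact ⟨fun h => h.elim (·.1) (·.1.1), fun h => (em (m ∈ K)).elim Or.inr fun h' => Or.inl ⟨h, h'⟩⟩
    · rw [disjoint_left]; intro m hm; simp only [hN, mem_filter] at hm ⊢; tauto
  have hbu := card_le_card hsub
  rw [card_biUnion hdisj] at hbu
  have hfc : ∀ u ∈ T, #(f u) = (d - 1) * Nat.card K := fun u hu => by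
    have h1 := hfcard u hu
    rw [← hqd] at h1
    rw [tsub_mul, one_mul, mul_comm]; omega
  rw [sum_congr rfl hfc, sum_const, smul_eq_mul] at hbu
  have hN' : #N = (d + 1) * ((d - 1) * Nat.card K) := by
    obtain ⟨e, he⟩ := Nat.exists_eq_add_of_le (show 1 ≤ d by omega)
    rw [← hqd] at hNcard
    rw [he, Nat.add_sub_cancel_left]
    rw [he] at hNcard
    nlinarith
  have hpos : 0 < (d - 1) * Nat.card K := Nat.mul_pos (by omega) Nat.card_pos
  have hTle : #T ≤ d + 1 := by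
    rw [hN'] at hbu
    exact Nat.le_of_mul_le_mul_right hbu hpos
  -- the line is contained in `C` and has `d + 1` points
  set R : Finset X := univ.filter fun u => u ∈ S.L x y with hR
  have hRT : R ⊆ T := fun u hu => by
    simp only [hR, mem_filter, mem_univ, true_and, L, Set.mem_insert_iff] at hu
    rw [hmemT]
    rcases hu with rfl | hu
    exacts [S.left_mem_C hxy, S.O_subset_C hxy hu]
  have hRcard : #R = d + 1 := by
    rw [hd, S.card_O_eq hzx hxy, Nat.subtype_card (univ.filter fun u => u ∈ S.O x y) (by simp)]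
    rw [← card_insert_of_notMem (a := x) (s := univ.filter fun u => u ∈ S.O x y)
      (by simpa using fun h => S.ne_of_mem_O hxy h rfl)]
    congr 1
    ext u
    simp [hR, L]
  have hTR := eq_of_subset_of_card_le hRT (by omega)
  refine ⟨Set.ext fun u => ?_, fun m hm => ?_⟩
  · rw [← hmemT, ← hTR]; simp [hR]
  by_cases hmK : m ∈ K
  · exact ⟨x, S.left_mem_C hxy, hmK.1.2⟩
  have heq := eq_of_subset_of_card_le hsub (by
    rw [card_biUnion hdisj, sum_congr rfl hfc, sum_const, smul_eq_mul, hN', ← hTR, hRcard])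
  have : m ∈ T.biUnion f := heq ▸ by simp [hN, hm, hmK]
  obtain ⟨u, hu, hmu⟩ := mem_biUnion.1 this
  simp only [f, mem_filter] at hmu
  exact ⟨u, (hmemT u).1 hu, hmu.2.1.2⟩

theorem C_eq_L {x y : X} (hxy : x ≠ y) : S.C x y = S.L x y := by
  obtain ⟨z, hz⟩ := S.exists_not_E hxy
  exact (S.pencil_main hxy hz).1

theorem left_mem_L (x y : X) : x ∈ S.L x y := Set.mem_insert _ _

theorem right_mem_L (x y : X) : y ∈ S.L x y := Set.mem_insert_of_mem _ (S.mem_O_self x y)

theorem L_eq {x y u v : X} (hxy : x ≠ y) (huv : u ≠ v) (hu : u ∈ S.L x y) (hv : v ∈ S.L x y) :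
    S.L u v = S.L x y := by
  rw [← S.C_eq_L hxy] at hu hv ⊢
  rw [← S.C_eq_L huv, (S.E_eq_of_C hxy huv hu hv).2]

theorem L_comm {x y : X} (hxy : x ≠ y) : S.L y x = S.L x y :=
  S.L_eq hxy hxy.symm (S.right_mem_L x y) (S.left_mem_L x y)

/-- The fixed set of the group of a pair is the line. -/
theorem E_eq_L {x y : X} (hxy : x ≠ y) : S.E x y = S.L x y := by
  refine Set.Subset.antisymm (fun w hw => ?_) (fun w hw => ((S.C_eq_L hxy).symm ▸ hw : w ∈ S.C x y).1)
  by_contra hwL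
  obtain ⟨z, hz⟩ := S.exists_not_E hxy
  have hzw : z ≠ w := fun h => hz (h ▸ hw)
  have hzx : z ≠ x := fun h => hz (h ▸ S.left_mem_E)
  have hzy : z ≠ y := fun h => hz (h ▸ S.right_mem_E)
  obtain ⟨m, hm, hmK⟩ : ∃ m ∈ S.A z w, m ∉ S.A z x ⊓ S.A z y := by
    by_contra! h
    have h1 := Nat.card_le_card_of_injective
      (fun a : S.A z w => (⟨a.1, h a.1 a.2⟩ : ↥(S.A z x ⊓ S.A z y)))
      fun a b e => Subtype.ext (congrArg (fun c => c.1) e :)
    have h2 := S.card_inter hzx hxy hzy hz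
    rw [S.card_A_eq hzw hzx] at h1
    have h3 := S.two_le_card_O hzx
    have h4 : 0 < Nat.card ↥(S.A z x ⊓ S.A z y) := Nat.card_pos
    nlinarith
  obtain ⟨u, hu, hmu⟩ := (S.pencil_main hxy hz).2 m hm.1
  have huw : u ≠ w := fun h => hwL (S.C_eq_L hxy ▸ h ▸ hu)
  have hone : ∀ v ∈ S.C x y, v ≠ u → m • v ≠ v := fun v hv hvu hmv =>
    hmK ((S.inter_eq hxy hz hu hv (Ne.symm hvu)).le ⟨⟨hm.1, hmu⟩, hm.1, hmv⟩)
  -- every other point of the line has its elations fixing `z`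
  have hB : ∀ v ∈ S.C x y, v ≠ u → ∀ b ∈ S.A v u, b • z = z := by
    intro v hv hvu b hb
    obtain ⟨t, ht, htu, hle⟩ := hu.2
    have hAu : S.A u v = S.A u w :=
      (S.A_uniform htu hvu ht hv.1 hle).trans (S.A_uniform htu huw.symm ht hw hle).symm
    have hmv := hone v hv hvu
    have hzv : z ≠ v := fun h => hz (h ▸ hv.1)
    have e1 : S.A v (m • v) = S.A v z := S.A_right_of_O hzv hmv ⟨m, hm.1, rfl⟩
    have humv : u ≠ m • v := fun h => hvu (smul_left_cancel m (h.symm.trans hmu.symm))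
    have hmem : u ∈ S.E v (m • v) := by
      by_contra hnot
      have h1 := S.card_inter hvu.symm (Ne.symm hmv) humv hnot
      have hsame : S.A u v ⊓ S.A u (m • v) = S.A u v := by
        refine inf_eq_left.2 fun a ha => ⟨ha.1, ?_⟩
        have h2 : m⁻¹ * a * m ∈ S.A u v := by
          rw [hAu] at ha ⊢
          have := S.normalises_A (g := m⁻¹) (inv_smul_eq_iff.2 hmu.symm)
            (inv_smul_eq_iff.2 hm.2.symm) ha
          rwa [inv_inv] at this
        have h3 : (m⁻¹ * a * m) • v = v := h2.2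
        rw [mul_smul, mul_smul, inv_smul_eq_iff] at h3
        exact h3
      rw [hsame] at h1
      have h3 := S.two_le_card_O hvu.symm
      have h4 : 0 < Nat.card ↥(S.A u v) := Nat.card_pos
      nlinarith
    have h5 : S.A v z = S.A v u := S.A_eq_of_fixes (Ne.symm hzv) hvu fun a ha =>
      ((S.mem_E).1 hmem).1 a (e1.symm ▸ ha)
    rw [← h5] at hb
    exact hb.2
  have h3 : ∃ v v', v ∈ S.C x y ∧ v' ∈ S.C x y ∧ v ≠ v' ∧ v ≠ u ∧ v' ≠ u := by
    obtain ⟨n, hn, hny⟩ := S.exists_moved hxy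
    have hxn : x ≠ n • y := S.ne_of_mem_O hxy ⟨n, hn, rfl⟩
    have hnC : n • y ∈ S.C x y := S.O_subset_C hxy ⟨n, hn, rfl⟩
    by_cases hux : u = x
    · exact ⟨y, n • y, S.right_mem_C hxy, hnC, Ne.symm hny, hux ▸ hxy.symm, hux ▸ hxn.symm⟩
    by_cases huy : u = y
    · exact ⟨x, n • y, S.left_mem_C hxy, hnC, hxn, huy ▸ hxy, huy ▸ hny⟩
    exact ⟨x, y, S.left_mem_C hxy, S.right_mem_C hxy, hxy, Ne.symm hux, Ne.symm huy⟩
  obtain ⟨v, v', hv, hv', hvv, hvu, hv'u⟩ := h3
  refine hz fun g hg => ?_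
  rw [← S.W_eq_of_C hxy hvv hv hv', W] at hg
  obtain ⟨t, ht, htv, hle⟩ := hv.2
  obtain ⟨t', ht', htv', hle'⟩ := hv'.2
  rw [(S.A_uniform htv hvv.symm ht hv'.1 hle).trans (S.A_uniform htv hvu.symm ht hu.1 hle).symm,
    (S.A_uniform htv' hvv ht' hv.1 hle').trans (S.A_uniform htv' hv'u.symm ht' hu.1 hle').symm] at hg
  exact (sup_le (fun a ha => hB v hv hvu a ha) (fun a ha => hB v' hv' hv'u a ha) :
    S.A v u ⊔ S.A v' u ≤ MulAction.stabilizer G z) hg

/-- An element of `M x` fixing two points fixes their line. -/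
theorem fixes_L {x y z w : X} (hyz : y ≠ z) {a : G} (ha : a ∈ S.M x) (hay : a • y = y)
    (haz : a • z = z) (hw : w ∈ S.L y z) : a • w = w := by
  by_cases hx : x ∈ S.L y z
  · by_cases hwx : w = x
    · exact hwx ▸ S.fixes x a ha
    by_cases hxy : x = y
    · subst hxy
      rw [← S.E_eq_L hyz] at hw
      exact ((S.mem_E).1 hw).1 a ⟨ha, haz⟩
    · rw [← S.L_eq hyz hxy hx (S.left_mem_L y z), ← S.E_eq_L hxy] at hw
      exact ((S.mem_E).1 hw).1 a ⟨ha, hay⟩
  · rw [← S.E_eq_L hyz] at hx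
    rw [← S.C_eq_L hyz] at hw
    exact S.fixes_C hyz hx ha hay haz hw

/-- Every element of `M x` fixes a point of every line off `x`. -/
theorem pencil {x y z : X} (hyz : y ≠ z) (hx : x ∉ S.L y z) {m : G} (hm : m ∈ S.M x) :
    ∃ u ∈ S.L y z, m • u = u := by
  rw [← S.E_eq_L hyz] at hx
  rw [← S.C_eq_L hyz]
  exact (S.pencil_main hyz hx).2 m hm

theorem smul_mem_L {x y w : X} {n : G} (hn : n ∈ S.M x) (hw : w ∈ S.L x y) :
    n • w ∈ S.L x y := by
  rcases hw with rfl | ⟨n', hn', rfl⟩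
  · rw [S.fixes _ n hn]; exact S.left_mem_L _ _
  · exact Or.inr ⟨n * n', mul_mem hn hn', mul_smul _ _ _⟩

end Sys

end CfsgLib.ONanLines
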