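import Mathlib.GroupTheory.GroupAction.Quotient
import Mathlib.GroupTheory.GroupAction.MultipleTransitivity
import Mathlib.GroupTheory.PGroup
import Mathlib.GroupTheory.NoncommCoprod
import Mathlib.GroupTheory.Perm.Cycle.Type

/-!
# Abelian normal subgroups of point stabilisers that are not semiregular: the linear space

For a 2-transitive group with an equivariant family `M x` of elementary abelian subgroups of the
point stabilisers, none of them semiregular off its point, the sets `{x} ∪ y^(M x)` are the lines of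
a linear space.
-/

set_option autoImplicit false

namespace CfsgLib.ONanLines

/-- The data. -/
structure Sys (G X : Type*) [Group G] [MulAction G X] where
  M : X → Subgroup G
  p : ℕ
  prime : p.Prime
  conj : ∀ (g : G) (x : X) (n : G), n ∈ M x → g * n * g⁻¹ ∈ M (g • x)
  fixes : ∀ (x : X) (n : G), n ∈ M x → n • x = x
  comm : ∀ (x : X) (a b : G), a ∈ M x → b ∈ M x → a * b = b * a
  pow_p : ∀ (x : X) (n : G), n ∈ M x → n ^ p = 1
  nontrivial : ∀ x y : X, x ≠ y → ∃ n ∈ M x, n ≠ 1 ∧ n • y = y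
  two : ∀ x y x' y' : X, x ≠ y → x' ≠ y' → ∃ g : G, g • x = x' ∧ g • y = y'
  faithful : ∀ g : G, (∀ x : X, g • x = x) → g = 1

namespace Sys

variable {G X : Type*} [Group G] [MulAction G X] (S : Sys G X)

/-- The elements of `M x` fixing `y`. -/
def A (x y : X) : Subgroup G := S.M x ⊓ MulAction.stabilizer G y

/-- The orbit of `y` under `M x`. -/
def O (x y : X) : Set X := {z | ∃ n ∈ S.M x, n • y = z}

theorem mem_A {x y : X} {a : G} : a ∈ S.A x y ↔ a ∈ S.M x ∧ a • y = y := Iff.rfl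

theorem conj' (g : G) (x : X) {n : G} (h : n ∈ S.M (g • x)) : g⁻¹ * n * g ∈ S.M x := by
  have := S.conj g⁻¹ (g • x) n h
  rwa [inv_inv, inv_smul_smul] at this

theorem conj_A {x y : X} {a : G} (g : G) (h : a ∈ S.A x y) :
    g * a * g⁻¹ ∈ S.A (g • x) (g • y) :=
  ⟨S.conj g x a h.1, show (g * a * g⁻¹) • (g • y) = g • y by
    rw [mul_smul, inv_smul_smul, mul_smul, h.2]⟩

theorem normalises {x : X} {g n : G} (hg : g • x = x) (hn : n ∈ S.M x) : g * n * g⁻¹ ∈ S.M x := by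
  have := S.conj g x n hn
  rwa [hg] at this

theorem normalises_A {x y : X} {g a : G} (hgx : g • x = x) (hgy : g • y = y) (ha : a ∈ S.A x y) :
    g * a * g⁻¹ ∈ S.A x y := by
  have := S.conj_A g ha
  rwa [hgx, hgy] at this

theorem card_A_map (g : G) (x y : X) : Nat.card (S.A (g • x) (g • y)) = Nat.card (S.A x y) := by
  refine (Nat.card_congr (α := S.A x y) (β := S.A (g • x) (g • y))
    { toFun := fun a => ⟨g * a.1 * g⁻¹, S.conj_A g a.2⟩
      invFun := fun a => ⟨g⁻¹ * a.1 * g, by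
        have := S.conj_A g⁻¹ a.2
        rwa [inv_inv, inv_smul_smul, inv_smul_smul] at this⟩
      left_inv := fun a => Subtype.ext (by simp [mul_assoc])
      right_inv := fun a => Subtype.ext (by simp [mul_assoc]) }).symm

theorem card_A_eq {x y x' y' : X} (h : x ≠ y) (h' : x' ≠ y') :
    Nat.card (S.A x y) = Nat.card (S.A x' y') := by
  obtain ⟨g, rfl, rfl⟩ := S.two x y x' y' h h'
  exact (S.card_A_map g x y).symm

include S in
theorem trans (x y : X) : ∃ g : G, g • x = y := by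
  by_cases h : x = y
  · exact ⟨1, by rw [one_smul, h]⟩
  · obtain ⟨g, hg, -⟩ := S.two x y y x h (Ne.symm h)
    exact ⟨g, hg⟩

variable [Finite G]

theorem A_eq_of_le {x y z : X} (hxy : x ≠ y) (hxz : x ≠ z) (h : S.A x y ≤ S.A x z) :
    S.A x y = S.A x z :=
  Subgroup.eq_of_le_of_card_ge h (S.card_A_eq hxz hxy).le

theorem A_eq_of_fixes {x y z : X} (hxy : x ≠ y) (hxz : x ≠ z)
    (h : ∀ a ∈ S.A x y, a • z = z) : S.A x y = S.A x z :=
  S.A_eq_of_le hxy hxz fun a ha => ⟨ha.1, h a ha⟩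

theorem exists_moved {x y : X} (hxy : x ≠ y) : ∃ n ∈ S.M x, n • y ≠ y := by
  by_contra! h
  obtain ⟨n, hn, hn1, -⟩ := S.nontrivial x y hxy
  refine hn1 (S.faithful n fun w => ?_)
  by_cases hw : x = w
  · exact hw ▸ S.fixes x n hn
  obtain ⟨g, hgx, hgy⟩ := S.two x y x w hxy hw
  have h1 := h _ (S.normalises (g := g⁻¹) (by rw [inv_smul_eq_iff, hgx]) hn)
  rw [inv_inv, mul_smul, mul_smul, hgy, inv_smul_eq_iff, hgy] at h1
  exact h1

theorem ne_of_mem_O {x y z : X} (hxy : x ≠ y) (hz : z ∈ S.O x y) : x ≠ z := by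
  obtain ⟨n, hn, rfl⟩ := hz
  exact fun h => hxy (smul_left_cancel n ((S.fixes x n hn).trans h))

theorem fixes_O {x y z : X} {a : G} (ha : a ∈ S.A x y) (hz : z ∈ S.O x y) : a • z = z := by
  obtain ⟨n, hn, rfl⟩ := hz
  rw [← mul_smul, S.comm x a n ha.1 hn, mul_smul, ha.2]

/-- The blocks `M x` meet trivially. -/
theorem ti {x y : X} (hxy : x ≠ y) {n : G} (hx : n ∈ S.M x) (hy : n ∈ S.M y) : n = 1 := by
  let D : X → X → Subgroup G := fun u v => S.M u ⊓ S.M v
  let E : X → X → Set X := fun u v => {w | D u v ≤ S.M w}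
  have hcard : ∀ u v : X, u ≠ v → Nat.card (D u v) = Nat.card (D x y) := by
    intro u v huv
    obtain ⟨g, rfl, rfl⟩ := S.two x y u v hxy huv
    refine (Nat.card_congr
      { toFun := fun a => ⟨g * a.1 * g⁻¹, S.conj g x a.1 a.2.1, S.conj g y a.1 a.2.2⟩
        invFun := fun a => ⟨g⁻¹ * a.1 * g, S.conj' g x a.2.1, S.conj' g y a.2.2⟩
        left_inv := fun a => Subtype.ext (by simp [mul_assoc])
        right_inv := fun a => Subtype.ext (by simp [mul_assoc]) }).symm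
  have hline : ∀ u v w w' : X, u ≠ v → w ≠ w' → w ∈ E u v → w' ∈ E u v → E w w' = E u v := by
    intro u v w w' huv hww hw hw'
    have : D u v = D w w' := Subgroup.eq_of_le_of_card_ge (le_inf hw hw')
      ((hcard w w' hww).trans (hcard u v huv).symm).le
    simp only [E, this]
  have hpres : ∀ u v : X, ∀ m ∈ S.M u, ∀ w ∈ E u v, m • w ∈ E u v := fun u v m hm w hw a ha => by
    have := S.conj m w a (hw ha)
    rwa [S.comm u m a hm ha.1, mul_inv_cancel_right] at this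
  refine S.faithful n fun z => ?_
  by_cases hz : z ∈ E x y
  · exact S.fixes z n (hz ⟨hx, hy⟩)
  by_contra hne
  have hzx : x ≠ z := fun h => hz (h ▸ fun a ha => ha.1)
  have hzy : y ≠ z := fun h => hz (h ▸ fun a ha => ha.2)
  have e1 : E (n • z) z = E x z :=
    hline x z _ z hzx hne (hpres x z n hx z fun a ha => ha.2) fun a ha => ha.2
  have e2 : E (n • z) z = E y z :=
    hline y z _ z hzy hne (hpres y z n hy z fun a ha => ha.2) fun a ha => ha.2
  have hymem : y ∈ E x z := by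
    rw [← e1, e2]; exact fun a ha => ha.1
  have e3 : E x y = E x z := hline x z x y hzx hxy (fun a ha => ha.1) hymem
  exact hz (e3 ▸ fun a ha => ha.2)

theorem commute_A {x y : X} (hxy : x ≠ y) {a b : G} (ha : a ∈ S.A x y) (hb : b ∈ S.A y x) :
    a * b = b * a := by
  have h := S.ti hxy (n := a * b * a⁻¹ * b⁻¹)
    (by
      have := mul_mem ha.1 (S.normalises hb.2 (inv_mem ha.1))
      rwa [show a * (b * a⁻¹ * b⁻¹) = a * b * a⁻¹ * b⁻¹ by group] at this)
    (mul_mem (S.normalises ha.2 hb.1) (inv_mem hb.1))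
  rw [mul_inv_eq_one, mul_inv_eq_iff_eq_mul] at h
  exact h

theorem fix_of_commute {x : X} {a g : G} (ha : a ∈ S.M x) (ha1 : a ≠ 1) (h : g * a = a * g) :
    g • x = x := by
  by_contra hne
  have := S.conj g x a ha
  rw [h, mul_inv_cancel_right] at this
  exact ha1 (S.ti hne this ha)

theorem exists_centralised {x y z : X} (hxy : x ≠ y) (hyz : y ≠ z)
    (hfix : ∀ a ∈ S.A x y, a • z = z) : ∃ b ∈ S.A y x, b ≠ 1 ∧ b • z = z := by
  haveI : Fact S.p.Prime := ⟨S.prime⟩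
  have hP : IsPGroup S.p (S.A x y) := fun a => ⟨1, Subtype.ext (by
    rw [pow_one, SubgroupClass.coe_pow]; exact S.pow_p x a a.2.1)⟩
  let act : MulAction (S.A x y) (S.A y z) :=
    { smul := fun a b => ⟨a.1 * b.1 * a.1⁻¹, S.normalises_A a.2.2 (hfix a.1 a.2) b.2⟩
      one_smul := fun b => Subtype.ext (by
        show (1 : G) * b.1 * 1⁻¹ = b.1
        simp)
      mul_smul := fun a a' b => Subtype.ext (by
        show (a.1 * a'.1) * b.1 * (a.1 * a'.1)⁻¹ = a.1 * (a'.1 * b.1 * a'.1⁻¹) * a.1⁻¹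
        group) }
  obtain ⟨n, hn, hn1, hny⟩ := S.nontrivial y z hyz
  have hdvd : S.p ∣ Nat.card (S.A y z) := by
    have h1 : orderOf (⟨n, hn, hny⟩ : S.A y z) = S.p := by
      refine orderOf_eq_prime (Subtype.ext ?_) fun h => hn1 (congrArg Subtype.val h)
      rw [SubgroupClass.coe_pow]; exact S.pow_p y n hn
    exact h1 ▸ orderOf_dvd_natCard _
  obtain ⟨b, hb, hb1⟩ := hP.exists_fixed_point_of_prime_dvd_card_of_fixed_point (S.A y z) hdvd
    (a := 1) (fun a => Subtype.ext (by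
      show a.1 * (1 : G) * a.1⁻¹ = 1
      simp))
  obtain ⟨a, ha, ha1, hay⟩ := S.nontrivial x y hxy
  have hcomm : a * b.1 = b.1 * a := by
    have h : a * b.1 * a⁻¹ = b.1 := congrArg Subtype.val (hb ⟨a, ha, hay⟩)
    rwa [mul_inv_eq_iff_eq_mul] at h
  refine ⟨b.1, ⟨b.2.1, S.fix_of_commute ha ha1 hcomm.symm⟩, fun h => hb1 (Subtype.ext h.symm), b.2.2⟩

/-- `A y x` fixes the orbit of `y` under `M x`. -/
theorem fixes_O' {x y z : X} (hxy : x ≠ y) {c : G} (hc : c ∈ S.A y x) (hz : z ∈ S.O x y) :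
    c • z = z := by
  obtain ⟨n, hn, rfl⟩ := hz
  by_cases hny : n • y = y
  · rw [hny]; exact S.fixes y c hc.1
  obtain ⟨b, hb, hb1, hbz⟩ := S.exists_centralised hxy (Ne.symm hny)
    fun a ha => S.fixes_O ha ⟨n, hn, rfl⟩
  set a := b * n * b⁻¹ * n⁻¹ with ha
  have haA : a ∈ S.A x y := by
    refine ⟨(S.M x).mul_mem (S.normalises hb.2 hn) ((S.M x).inv_mem hn), ?_⟩
    show a • y = y
    have h1 : b⁻¹ • (n⁻¹ • y) = b⁻¹ • n⁻¹ • y := rfl
    have hnn : n⁻¹ * (b * n * b⁻¹) = a := by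
      rw [ha]
      exact (S.comm x _ _ (S.normalises hb.2 hn) (inv_mem hn)).symm
    rw [← hnn, mul_smul, mul_smul, mul_smul, inv_smul_eq_iff.2 (S.fixes y b hb.1).symm, hbz,
      inv_smul_smul]
  have hbn : b * n * b⁻¹ = a * n := by rw [ha]; group
  have hcb : b * c = c * b := S.comm y b c hb.1 hc.1
  set m := c * n * c⁻¹ * n⁻¹ with hm
  have hmM : m ∈ S.M x := mul_mem (S.normalises hc.2 hn) (inv_mem hn)
  have hac : a * c = c * a := S.commute_A hxy haA hc
  have hbm : b * m * b⁻¹ = m := by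
    have e : b * m * b⁻¹ = c * (b * n * b⁻¹) * c⁻¹ * (b * n * b⁻¹)⁻¹ := by
      have e2 : b * c⁻¹ = c⁻¹ * b := by
        rw [eq_inv_mul_iff_mul_eq, ← mul_assoc, ← hcb, mul_inv_cancel_right]
      calc b * m * b⁻¹ = (b * c) * n * c⁻¹ * n⁻¹ * b⁻¹ := by rw [hm]; group
        _ = c * b * n * c⁻¹ * n⁻¹ * b⁻¹ := by rw [hcb]
        _ = c * b * n * b⁻¹ * (b * c⁻¹) * n⁻¹ * b⁻¹ := by group
        _ = _ := by rw [e2]; group
    rw [e, hbn]
    have e3 : c * (a * n) * c⁻¹ * (a * n)⁻¹ = a * (c * n * c⁻¹ * n⁻¹) * a⁻¹ := by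
      rw [← mul_assoc c a n, ← hac]; group
    rw [e3, ← hm, S.comm x a m haA.1 hmM, mul_inv_cancel_right]
  have hmy : m • y = y :=
    S.fix_of_commute hb.1 hb1 ((mul_inv_eq_iff_eq_mul.1 hbm).symm)
  have hcn : c * n * c⁻¹ = n * m := by
    rw [S.comm x n m hn hmM, hm]; group
  calc c • n • y = (c * n * c⁻¹) • (c • y) := by
        rw [mul_smul, inv_smul_smul, mul_smul]
    _ = n • y := by rw [hcn, S.fixes y c hc.1, mul_smul, hmy]

theorem A_left_of_O {x y z : X} (hxy : x ≠ y) (hz : z ∈ S.O x y) : S.A x z = S.A x y :=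
  (S.A_eq_of_fixes hxy (S.ne_of_mem_O hxy hz) fun _ ha => S.fixes_O ha hz).symm

theorem A_right_of_O {x y z : X} (hxy : x ≠ y) (hzy : z ≠ y) (hz : z ∈ S.O x y) :
    S.A y z = S.A y x :=
  (S.A_eq_of_fixes hxy.symm hzy.symm fun _ hb => S.fixes_O' hxy hb hz).symm

/-- The group of a pair of points. -/
def W (x y : X) : Subgroup G := S.A x y ⊔ S.A y x

/-- The fixed points of the group of a pair. -/
def E (x y : X) : Set X := {w | ∀ g ∈ S.W x y, g • w = w}

/-- The candidates for the points of a line. -/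
def C (x y : X) : Set X := {w | w ∈ S.E x y ∧ ∃ t ∈ S.E x y, t ≠ w ∧ S.A w t ≤ S.W x y}

theorem mem_E {x y w : X} :
    w ∈ S.E x y ↔ (∀ a ∈ S.A x y, a • w = w) ∧ ∀ b ∈ S.A y x, b • w = w := by
  refine ⟨fun h => ⟨fun a ha => h a (Subgroup.mem_sup_left ha),
    fun b hb => h b (Subgroup.mem_sup_right hb)⟩, fun ⟨h1, h2⟩ g hg => ?_⟩
  exact (sup_le (fun a ha => MulAction.mem_stabilizer_iff.2 (h1 a ha))
    (fun b hb => MulAction.mem_stabilizer_iff.2 (h2 b hb)) :
      S.W x y ≤ MulAction.stabilizer G w) hg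

theorem W_comm (x y : X) : S.W y x = S.W x y := sup_comm _ _

theorem E_comm (x y : X) : S.E y x = S.E x y := by simp only [E, S.W_comm]

theorem left_mem_E {x y : X} : x ∈ S.E x y :=
  (S.mem_E).2 ⟨fun a ha => S.fixes x a ha.1, fun _ hb => hb.2⟩

theorem right_mem_E {x y : X} : y ∈ S.E x y :=
  (S.mem_E).2 ⟨fun _ ha => ha.2, fun b hb => S.fixes y b hb.1⟩

theorem card_W {x y : X} (hxy : x ≠ y) :
    Nat.card (S.W x y) = Nat.card (S.A x y) * Nat.card (S.A y x) := by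
  have hc : ∀ (a : S.A x y) (b : S.A y x),
      Commute ((S.A x y).subtype a) ((S.A y x).subtype b) := fun a b => S.commute_A hxy a.2 b.2
  let f := MonoidHom.noncommCoprod (S.A x y).subtype (S.A y x).subtype hc
  have hr : f.range = S.W x y := by
    rw [MonoidHom.noncommCoprod_range, Subgroup.range_subtype, Subgroup.range_subtype]; rfl
  have hinj : Function.Injective f := by
    refine (injective_iff_map_eq_one f).2 ?_
    rintro ⟨⟨a, ha⟩, ⟨b, hb⟩⟩ h
    have hab : a * b = 1 := h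
    have hb1 : b = 1 := S.ti hxy
      (by rw [eq_inv_of_mul_eq_one_right hab]; exact inv_mem ha.1) hb.1
    rw [hb1, mul_one] at hab
    exact Prod.ext (Subtype.ext hab) (Subtype.ext hb1)
  rw [← hr, ← Nat.card_congr (MonoidHom.ofInjective hinj).toEquiv, Nat.card_prod]

theorem left_mem_C {x y : X} (hxy : x ≠ y) : x ∈ S.C x y :=
  ⟨S.left_mem_E, y, S.right_mem_E, hxy.symm, le_sup_left⟩

theorem right_mem_C {x y : X} (hxy : x ≠ y) : y ∈ S.C x y :=
  ⟨S.right_mem_E, x, S.left_mem_E, hxy, le_sup_right⟩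

theorem O_subset_C {x y : X} (hxy : x ≠ y) : S.O x y ⊆ S.C x y := by
  intro w hw
  have hwE : w ∈ S.E x y :=
    (S.mem_E).2 ⟨fun a ha => S.fixes_O ha hw, fun b hb => S.fixes_O' hxy hb hw⟩
  refine ⟨hwE, x, S.left_mem_E, S.ne_of_mem_O hxy hw, ?_⟩
  obtain ⟨n, hn, rfl⟩ := hw
  intro c hc
  have hb : n⁻¹ * c * n ∈ S.A y x := by
    have := S.conj_A n⁻¹ hc
    rwa [inv_inv, inv_smul_smul, inv_smul_eq_iff.2 (S.fixes x n hn).symm] at this
  set b := n⁻¹ * c * n with hbdef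
  have hm : n * (b * n⁻¹ * b⁻¹) ∈ S.A x y := by
    refine ⟨mul_mem hn (S.normalises hb.2 (inv_mem hn)), ?_⟩
    show (n * (b * n⁻¹ * b⁻¹)) • y = y
    rw [mul_smul, mul_smul, mul_smul, inv_smul_eq_iff.2 (S.fixes y b hb.1).symm,
      S.fixes_O' hxy hb ⟨n⁻¹, inv_mem hn, rfl⟩, smul_inv_smul]
  have e : c = n * (b * n⁻¹ * b⁻¹) * b := by rw [hbdef]; group
  rw [e]
  exact mul_mem (Subgroup.mem_sup_left hm) (Subgroup.mem_sup_right hb)

theorem A_uniform {x y w t t' : X} (htw : t ≠ w) (ht'w : t' ≠ w) (ht : t ∈ S.E x y)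
    (ht' : t' ∈ S.E x y) (hle : S.A w t ≤ S.W x y) : S.A w t' = S.A w t :=
  (S.A_eq_of_fixes htw.symm ht'w.symm fun a ha => ht' a (hle ha)).symm

theorem W_eq_of_C {x y w w' : X} (hxy : x ≠ y) (hww : w ≠ w') (hw : w ∈ S.C x y)
    (hw' : w' ∈ S.C x y) : S.W w w' = S.W x y := by
  obtain ⟨hwE, t, ht, htw, hle⟩ := hw
  obtain ⟨hwE', t', ht', htw', hle'⟩ := hw'
  have h1 : S.W w w' ≤ S.W x y := by
    refine sup_le ?_ ?_
    · rw [S.A_uniform htw hww.symm ht hwE' hle]; exact hle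
    · rw [S.A_uniform htw' hww ht' hwE hle']; exact hle'
  refine Subgroup.eq_of_le_of_card_ge h1 (le_of_eq ?_)
  rw [S.card_W hxy, S.card_W hww, S.card_A_eq hxy hww, S.card_A_eq hxy.symm hww.symm]

/-- An element of some `M z` fixing `x` and `y` fixes the whole candidate set. -/
theorem fixes_C {x y z : X} (hxy : x ≠ y) (hz : z ∉ S.E x y) {k : G} (hk : k ∈ S.M z)
    (hkx : k • x = x) (hky : k • y = y) {w : X} (hw : w ∈ S.C x y) : k • w = w := by
  have hkE : ∀ u ∈ S.E x y, k • u ∈ S.E x y := by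
    intro u hu
    rw [mem_E] at hu ⊢
    refine ⟨fun a ha => ?_, fun b hb => ?_⟩
    · have h1 := hu.1 _ (S.normalises_A (g := k⁻¹) (inv_smul_eq_iff.2 hkx.symm)
        (inv_smul_eq_iff.2 hky.symm) ha)
      rwa [inv_inv, mul_smul, mul_smul, inv_smul_eq_iff] at h1
    · have h1 := hu.2 _ (S.normalises_A (g := k⁻¹) (inv_smul_eq_iff.2 hky.symm)
        (inv_smul_eq_iff.2 hkx.symm) hb)
      rwa [inv_inv, mul_smul, mul_smul, inv_smul_eq_iff] at h1
  obtain ⟨hwE, t, ht, htw, hle⟩ := hw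
  by_contra hne
  have hkC : k • w ∈ S.C x y := by
    refine ⟨hkE w hwE, k • t, hkE t ht, fun h => htw (smul_left_cancel k h), fun a ha => ?_⟩
    have h1 : k⁻¹ * a * k ∈ S.W x y := hle (by
      have := S.conj_A k⁻¹ ha
      rwa [inv_inv, inv_smul_smul, inv_smul_smul] at this)
    have h2 : ∀ g ∈ S.W x y, k * g * k⁻¹ ∈ S.W x y := fun g hg => by
      have hl : S.W x y ≤ (S.W x y).comap (MulAut.conj k).toMonoidHom := sup_le
        (fun c hc => Subgroup.mem_sup_left (S.normalises_A hkx hky hc))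
        (fun c hc => Subgroup.mem_sup_right (S.normalises_A hky hkx hc))
      exact hl hg
    have := h2 _ h1
    rwa [show k * (k⁻¹ * a * k) * k⁻¹ = a by group] at this
  have hzw : z ≠ w := fun h => hz (h ▸ hwE)
  have hmem : k • w ∈ S.O z w := ⟨k, hk, rfl⟩
  have hzkw : z ≠ k • w := S.ne_of_mem_O hzw hmem
  have e1 : S.A w (k • w) = S.A w z := S.A_right_of_O hzw hne hmem
  have e2 : S.A (k • w) w = S.A (k • w) z :=
    S.A_right_of_O hzkw (Ne.symm hne) ⟨k⁻¹, inv_mem hk, inv_smul_smul k w⟩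
  refine hz fun g hg => ?_
  rw [← S.W_eq_of_C hxy (Ne.symm hne) ⟨hwE, t, ht, htw, hle⟩ hkC, W, e1, e2] at hg
  exact (sup_le (fun a ha => ha.2) (fun a ha => ha.2) :
    S.A w z ⊔ S.A (k • w) z ≤ MulAction.stabilizer G z) hg

theorem commutator_mem {x y : X} (hxy : x ≠ y) {n a : G} (hn : n ∈ S.M y) (ha : a ∈ S.A x y) :
    a⁻¹ * (n * a * n⁻¹) ∈ S.A y x := by
  refine ⟨?_, ?_⟩
  · have := mul_mem (S.normalises (g := a⁻¹) (inv_smul_eq_iff.2 ha.2.symm) hn) (inv_mem hn)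
    rwa [inv_inv, show a⁻¹ * n * a * n⁻¹ = a⁻¹ * (n * a * n⁻¹) by group] at this
  · show (a⁻¹ * (n * a * n⁻¹)) • x = x
    rw [mul_smul, mul_smul, mul_smul, S.fixes_O' hxy.symm ha ⟨n⁻¹, inv_mem hn, rfl⟩,
      smul_inv_smul, inv_smul_eq_iff, S.fixes x a ha.1]

/-- The map `a ↦ a⁻¹ n a n⁻¹`. -/
def psi {x y : X} (hxy : x ≠ y) {n : G} (hn : n ∈ S.M y) : S.A x y →* S.A y x :=
  MonoidHom.mk' (fun a => ⟨a.1⁻¹ * (n * a.1 * n⁻¹), S.commutator_mem hxy hn a.2⟩) fun a a' => by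
    refine Subtype.ext ?_
    show (a.1 * a'.1)⁻¹ * (n * (a.1 * a'.1) * n⁻¹) =
      a.1⁻¹ * (n * a.1 * n⁻¹) * (a'.1⁻¹ * (n * a'.1 * n⁻¹))
    have h := (S.commute_A hxy (inv_mem a'.2) (S.commutator_mem hxy hn a.2))
    calc (a.1 * a'.1)⁻¹ * (n * (a.1 * a'.1) * n⁻¹)
        = a'.1⁻¹ * (a.1⁻¹ * (n * a.1 * n⁻¹)) * (n * a'.1 * n⁻¹) := by group
      _ = a.1⁻¹ * (n * a.1 * n⁻¹) * a'.1⁻¹ * (n * a'.1 * n⁻¹) := by rw [h]
      _ = _ := by group

theorem psi_injective {x y : X} (hxy : x ≠ y) {n : G} (hn : n ∈ S.M y) (hnx : n • x ≠ x) :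
    Function.Injective (S.psi hxy hn) := by
  refine (injective_iff_map_eq_one _).2 fun a ha => ?_
  by_contra ha1
  have h : a.1⁻¹ * (n * a.1 * n⁻¹) = 1 := congrArg Subtype.val ha
  rw [inv_mul_eq_one, eq_mul_inv_iff_mul_eq] at h
  exact hnx (S.fix_of_commute a.2.1 (fun e => ha1 (Subtype.ext e)) h.symm)

theorem psi_mem {x y z : X} (hxy : x ≠ y) (hyz : y ≠ z) (hxz : x ∉ S.E y z) {n : G}
    (hn : n ∈ S.M y) {a : S.A x y} (ha : (a : G) • z = z) :
    ((S.psi hxy hn a : S.A y x) : G) • z = z := by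
  show ((a : G)⁻¹ * (n * a * n⁻¹)) • z = z
  have h : (a : G) • (n⁻¹ • z) = n⁻¹ • z :=
    S.fixes_C hyz hxz a.2.1 a.2.2 ha (S.O_subset_C hyz ⟨n⁻¹, inv_mem hn, rfl⟩)
  rw [mul_smul, mul_smul, mul_smul, h, smul_inv_smul, inv_smul_eq_iff, ha]

/-- Non-collinearity is symmetric. -/
theorem not_E_symm {x y z : X} (hxy : x ≠ y) (hyz : y ≠ z) (hxz' : x ≠ z) (h : x ∉ S.E y z) :
    y ∉ S.E x z := by
  intro hy
  obtain ⟨hy1, hy2⟩ := (S.mem_E).1 hy
  apply h
  obtain ⟨n, hn, hnx⟩ := S.exists_moved hxy.symm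
  have eA : S.A x z = S.A x y := S.A_eq_of_fixes hxz' hxy hy1
  have eC : S.A z x = S.A z y := S.A_eq_of_fixes hxz'.symm hyz.symm hy2
  have hBz : ∀ b ∈ S.A y x, b • z = z := fun b hb => by
    have hbij : Function.Bijective (S.psi hxy hn) :=
      (Nat.bijective_iff_injective_and_card _).2
        ⟨S.psi_injective hxy hn hnx, S.card_A_eq hxy hxy.symm⟩
    obtain ⟨a, ha⟩ := hbij.2 ⟨b, hb⟩
    rw [show b = ((S.psi hxy hn a : S.A y x) : G) by rw [ha]]
    exact S.psi_mem hxy hyz h hn (show a.1 • z = z by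
      have h' : a.1 ∈ S.A x z := by rw [eA]; exact a.2
      exact h'.2)
  have eB : S.A y x = S.A y z := S.A_eq_of_fixes hxy.symm hyz hBz
  refine (S.mem_E).2 ⟨fun b hb => ?_, fun c hc => ?_⟩
  · rw [← eB] at hb; exact hb.2
  · rw [← eC] at hc; exact hc.2

/-- Two non-collinear directions at `x` meet in index `d`. -/
theorem card_inter {x y z : X} (hxy : x ≠ y) (hyz : y ≠ z) (hxz' : x ≠ z) (h : x ∉ S.E y z) :
    Nat.card ↥(S.A x y ⊓ S.A x z) * Nat.card (S.O x y) = Nat.card (S.A x y) := by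
  classical
  set K := (S.A x y ⊓ S.A x z).subgroupOf (S.A x y) with hK
  set K' := (S.A y x ⊓ S.A y z).subgroupOf (S.A y x) with hK'
  have hKz : ∀ a : S.A x y, a ∈ K ↔ (a : G) • z = z := fun a =>
    ⟨fun ha => (Subgroup.mem_subgroupOf.1 ha).2.2,
      fun ha => Subgroup.mem_subgroupOf.2 ⟨a.2, a.2.1, ha⟩⟩
  have hK'z : ∀ a : S.A y x, a ∈ K' ↔ (a : G) • z = z := fun a =>
    ⟨fun ha => (Subgroup.mem_subgroupOf.1 ha).2.2,
      fun ha => Subgroup.mem_subgroupOf.2 ⟨a.2, a.2.1, ha⟩⟩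
  have h' := S.not_E_symm hxy hyz hxz' h
  obtain ⟨n₀, hn₀, hn₀x⟩ := S.exists_moved hxy.symm
  obtain ⟨m₀, hm₀, hm₀y⟩ := S.exists_moved hxy
  have hle : Nat.card K ≤ Nat.card K' := Nat.card_le_card_of_injective
    (fun a : K => (⟨S.psi hxy hn₀ a.1, (hK'z _).2 (S.psi_mem hxy hyz h hn₀ ((hKz _).1 a.2))⟩ : K'))
    fun a a' e => Subtype.ext (S.psi_injective hxy hn₀ hn₀x (congrArg Subtype.val e))
  have hge : Nat.card K' ≤ Nat.card K := Nat.card_le_card_of_injective
    (fun a : K' => (⟨S.psi hxy.symm hm₀ a.1,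
      (hKz _).2 (S.psi_mem hxy.symm hxz' h' hm₀ ((hK'z _).1 a.2))⟩ : K))
    fun a a' e => Subtype.ext (S.psi_injective hxy.symm hm₀ hm₀y (congrArg Subtype.val e))
  have hrefl : ∀ (n : G) (hn : n ∈ S.M y), n • x ≠ x → ∀ a : S.A x y,
      ((S.psi hxy hn a : S.A y x) : G) • z = z → (a : G) • z = z := by
    intro n hn hnx a ha
    have hbij : Function.Bijective
        (fun a : K => (⟨S.psi hxy hn a.1, (hK'z _).2 (S.psi_mem hxy hyz h hn ((hKz _).1 a.2))⟩ : K')) :=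
      (Nat.bijective_iff_injective_and_card _).2
        ⟨fun a a' e => Subtype.ext (S.psi_injective hxy hn hnx (congrArg Subtype.val e)),
          le_antisymm hle hge⟩
    obtain ⟨k, hk⟩ := hbij.2 ⟨_, (hK'z _).2 ha⟩
    rw [← S.psi_injective hxy hn hnx (congrArg Subtype.val hk)]
    exact (hKz _).1 k.2
  have hidx : K.index ≤ Nat.card (S.O x y) := by
    have hxz'' : z ≠ x := hxz'.symm
    rw [Subgroup.index_eq_card]
    have hOz : Nat.card (S.O x z) = Nat.card (S.O x y) := by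
      obtain ⟨g, hgx, hgz⟩ := S.two x z x y hxz' hxy
      refine Nat.card_congr
        { toFun := fun w => ⟨g • w.1, ?_⟩
          invFun := fun w => ⟨g⁻¹ • w.1, ?_⟩
          left_inv := fun w => Subtype.ext (inv_smul_smul g _)
          right_inv := fun w => Subtype.ext (smul_inv_smul g _) }
      · obtain ⟨n, hn, hnw⟩ := w.2
        exact ⟨g * n * g⁻¹, S.normalises hgx hn, by
          rw [mul_smul, mul_smul, inv_smul_eq_iff.2 hgz.symm, hnw]⟩
      · obtain ⟨n, hn, hnw⟩ := w.2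
        refine ⟨g⁻¹ * n * g, ?_, by rw [mul_smul, mul_smul, hgz, hnw]⟩
        have := S.normalises (g := g⁻¹) (inv_smul_eq_iff.2 hgx.symm) hn
        rwa [inv_inv] at this
    rw [← hOz]
    haveI : Finite (S.O x z) := Set.Finite.to_subtype
      ((Set.finite_range fun n : S.M x => (n : G) • z).subset fun w ⟨n, hn, hw⟩ => ⟨⟨n, hn⟩, hw⟩)
    refine Nat.card_le_card_of_injective (fun q => Quotient.liftOn' q
      (fun a : S.A x y => (⟨(a : G) • z, a.1, a.2.1, rfl⟩ : S.O x z)) fun a a' haa => ?_) ?_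
    · refine Subtype.ext ?_
      have := (hKz _).1 (QuotientGroup.leftRel_apply.1 haa)
      rw [Subgroup.coe_mul, Subgroup.coe_inv, mul_smul, inv_smul_eq_iff] at this
      exact this.symm
    · intro q q' e
      induction q using QuotientGroup.induction_on with | _ a => ?_
      induction q' using QuotientGroup.induction_on with | _ a' => ?_
      refine QuotientGroup.eq.2 ((hKz _).2 ?_)
      rw [Subgroup.coe_mul, Subgroup.coe_inv, mul_smul, inv_smul_eq_iff]
      exact (congrArg Subtype.val e :).symm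
  have hidx' : Nat.card (S.O x y) ≤ K.index := by
    by_cases htriv : ∀ a : S.A x y, (a : G) • z = z
    · exfalso
      have hz : z ∉ S.E x y := S.not_E_symm hxz' hyz.symm hxy (by rw [S.E_comm]; exact h)
      refine hz ((S.mem_E).2 ⟨fun a ha => htriv ⟨a, ha⟩, fun b hb => ?_⟩)
      have hbij : Function.Bijective (S.psi hxy hn₀) :=
        (Nat.bijective_iff_injective_and_card _).2
          ⟨S.psi_injective hxy hn₀ hn₀x, S.card_A_eq hxy hxy.symm⟩
      obtain ⟨a, ha⟩ := hbij.2 ⟨b, hb⟩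
      rw [show b = ((S.psi hxy hn₀ a : S.A y x) : G) by rw [ha]]
      exact S.psi_mem hxy hyz h hn₀ (htriv a)
    push Not at htriv
    obtain ⟨a, ha⟩ := htriv
    have hidxK' : K'.index = K.index := by
      refine Nat.eq_of_mul_eq_mul_left (Nat.card_pos (α := K)) ?_
      rw [Subgroup.card_mul_index, le_antisymm hle hge, Subgroup.card_mul_index,
        S.card_A_eq hxy hxy.symm]
    rw [← hidxK', Subgroup.index_eq_card]
    have hO : Nat.card (S.O x y) = Nat.card (S.O y x) := by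
      obtain ⟨g, hgx, hgy⟩ := S.two x y y x hxy hxy.symm
      refine Nat.card_congr
        { toFun := fun w => ⟨g • w.1, ?_⟩
          invFun := fun w => ⟨g⁻¹ • w.1, ?_⟩
          left_inv := fun w => Subtype.ext (inv_smul_smul g _)
          right_inv := fun w => Subtype.ext (smul_inv_smul g _) }
      · obtain ⟨n, hn, hnw⟩ := w.2
        exact ⟨g * n * g⁻¹, hgx ▸ S.conj g x n hn, by
          rw [mul_smul, mul_smul, inv_smul_eq_iff.2 hgy.symm, hnw]⟩
      · obtain ⟨n, hn, hnw⟩ := w.2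
        have hn' : n ∈ S.M (g • x) := by rw [hgx]; exact hn
        exact ⟨g⁻¹ * n * g, S.conj' g x hn', by rw [mul_smul, mul_smul, hgy, hnw]⟩
    rw [hO]
    have hch : ∀ w : S.O y x, ∃ n ∈ S.M y, n • x = w.1 := fun w => w.2
    choose n hn hnw using hch
    refine Nat.card_le_card_of_injective
      (fun w : S.O y x => (QuotientGroup.mk (S.psi hxy (hn w) a) : S.A y x ⧸ K')) fun w w' e => ?_
    have h1 := (hK'z _).1 (QuotientGroup.eq.1 e)
    by_contra hne
    have hn'' : (n w)⁻¹ * n w' ∈ S.M y := mul_mem (inv_mem (hn w)) (hn w')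
    have hnx : ((n w)⁻¹ * n w') • x ≠ x := fun e' => hne (Subtype.ext (by
      rw [← hnw w, ← hnw w']
      rw [mul_smul, inv_smul_eq_iff] at e'
      exact e'.symm))
    apply ha
    refine hrefl _ hn'' hnx a ?_
    have hadd : S.psi hxy hn'' a = (S.psi hxy (hn w) a)⁻¹ * S.psi hxy (hn w') a := by
      rw [eq_inv_mul_iff_mul_eq]
      refine Subtype.ext ?_
      show (a : G)⁻¹ * (n w * a * (n w)⁻¹) * ((a : G)⁻¹ * ((n w)⁻¹ * n w' * a * ((n w)⁻¹ * n w')⁻¹)) =
        (a : G)⁻¹ * (n w' * a * (n w')⁻¹)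
      have hψ : (a : G)⁻¹ * ((n w)⁻¹ * n w' * a * ((n w)⁻¹ * n w')⁻¹) ∈ S.M y :=
        (S.commutator_mem hxy hn'' a.2).1
      have hc := S.comm y (n w)⁻¹ _ (inv_mem (hn w)) hψ
      calc (a : G)⁻¹ * (n w * a * (n w)⁻¹) *
            ((a : G)⁻¹ * ((n w)⁻¹ * n w' * a * ((n w)⁻¹ * n w')⁻¹))
          = (a : G)⁻¹ * (n w * a) * ((n w)⁻¹ *
            ((a : G)⁻¹ * ((n w)⁻¹ * n w' * a * ((n w)⁻¹ * n w')⁻¹))) := by group
        _ = _ := by rw [hc]; group
    rw [hadd]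
    exact h1
  have e := Subgroup.card_mul_index K
  rw [le_antisymm hidx hidx'] at e
  rw [← e]
  congr 1
  exact (Nat.card_congr (Subgroup.subgroupOfEquivOfLe inf_le_left).toEquiv).symm

end Sys

end CfsgLib.ONanLines
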